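import Groth.Agent.UnibFib.UnramUnib
import Groth.Agent.GeomUnib.Irred
import Mathlib.AlgebraicGeometry.Morphisms.Etale
import Mathlib.AlgebraicGeometry.Morphisms.Flat

/-!
# Etale and unramified morphisms over geometrically unibranch points
-/

set_option autoImplicit false
universe u
open CategoryTheory CategoryTheory.Limits AlgebraicGeometry

namespace Groth.Agent.UnibFib

variable {X Y : Scheme.{u}} (f : X ⟶ Y)

theorem exists_chart (x : X) (U : X.Opens) (hxU : x ∈ U) :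
    ∃ (V : Y.Opens) (_ : IsAffineOpen V) (W : X.Opens) (_ : IsAffineOpen W) (_ : W ≤ f ⁻¹ᵁ V),
      x ∈ W ∧ W ≤ U := by
  obtain ⟨_, ⟨V, hV, rfl⟩, hxV, -⟩ :=
    Y.isBasis_affineOpens.exists_subset_of_mem_open (Set.mem_univ (f.base x)) isOpen_univ
  obtain ⟨_, ⟨W, hW, rfl⟩, hxW, hWV⟩ :=
    X.isBasis_affineOpens.exists_subset_of_mem_open (show x ∈ ((f ⁻¹ᵁ V ⊓ U : X.Opens) : Set X) from ⟨hxV, hxU⟩)
      (f ⁻¹ᵁ V ⊓ U).isOpen
  exact ⟨V, hV, W, hW, fun z hz => (hWV hz).1, hxW, fun z hz => (hWV hz).2⟩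

theorem SpecMap_appLE_of_le {P : MorphismProperty Scheme.{u}} [P.RespectsIso] {U : X.Opens}
    {V : Y.Opens} (hV : IsAffineOpen V) {W : X.Opens} (hW : IsAffineOpen W) (hWV : W ≤ f ⁻¹ᵁ V) (hWU : W ≤ U)
    (hP : ∀ {Z : Scheme.{u}} (i : Z ⟶ (U : Scheme.{u})), IsOpenImmersion i → P (i ≫ U.ι ≫ f))
    (hcancel : ∀ {A B : Scheme.{u}} (a : A ⟶ B) (b : B ⟶ Y), IsOpenImmersion b → P (a ≫ b) → P a) :
    P (Spec.map (f.appLE V W hWV)) := by
  refine hcancel _ hV.fromSpec inferInstance ?_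
  rw [IsAffineOpen.SpecMap_appLE_fromSpec f hV hW hWV]
  have : hW.fromSpec = (hW.isoSpec.inv ≫ X.homOfLE hWU) ≫ U.ι := by
    rw [Category.assoc, Scheme.homOfLE_ι, IsAffineOpen.isoSpec_inv_ι]
  rw [this, Category.assoc]
  exact hP _ inferInstance

theorem etale_appLE_of_le {U : X.Opens} (hU : Etale (U.ι ≫ f)) {V : Y.Opens} (hV : IsAffineOpen V)
    {W : X.Opens} (hW : IsAffineOpen W) (hWV : W ≤ f ⁻¹ᵁ V) (hWU : W ≤ U) : (f.appLE V W hWV).hom.Etale := by
  refine (HasRingHomProperty.Spec_iff (P := @Etale)).1 (SpecMap_appLE_of_le f hV hW hWV hWU (P := @Etale)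
    (fun i _ => inferInstance) fun a b _ h => ?_)
  exact MorphismProperty.of_postcomp @Etale (W' := @LocallyOfFiniteType ⊓ @FormallyUnramified) a b
    ⟨inferInstance, inferInstance⟩ h

theorem unram_appLE_of_le {U : X.Opens} (hU : FormallyUnramified (U.ι ≫ f)) {V : Y.Opens} (hV : IsAffineOpen V)
    {W : X.Opens} (hW : IsAffineOpen W) (hWV : W ≤ f ⁻¹ᵁ V) (hWU : W ≤ U) :
    (f.appLE V W hWV).hom.FormallyUnramified := by
  refine (HasRingHomProperty.Spec_iff (P := @FormallyUnramified)).1 (SpecMap_appLE_of_le f hV hW hWV hWU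
    (P := @FormallyUnramified) (fun i _ => MorphismProperty.comp_mem _ i (U.ι ≫ f) inferInstance hU) fun a b _ h => ?_)
  exact FormallyUnramified.of_comp a b

/-- Local rings of etale schemes over geometrically unibranch domains. -/
theorem stalk_of_etale (x : X) (hf : ∃ U : X.Opens, x ∈ U ∧ Etale (U.ι ≫ f))
    (hd : IsDomain (Y.presheaf.stalk (f.base x))) (hg : CAlg2.IsGeomUnibranch (Y.presheaf.stalk (f.base x))) :
    IsDomain (X.presheaf.stalk x) ∧ CAlg2.IsGeomUnibranch (X.presheaf.stalk x) := by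
  obtain ⟨U, hxU, hU⟩ := hf
  obtain ⟨V, hV, W, hW, hWV, hxW, hWU⟩ := exists_chart f x U hxU
  have het := etale_appLE_of_le f hU hV hW hWV hWU
  algebraize [(f.appLE V W hWV).hom]
  have hxV : f.base x ∈ V := hWV hxW
  let p := (hV.primeIdealOf ⟨f.base x, hxV⟩).asIdeal
  let q := (hW.primeIdealOf ⟨x, hxW⟩).asIdeal
  letI : Algebra Γ(Y, V) (Y.presheaf.stalk (f.base x)) := (Y.presheaf.germ V (f.base x) hxV).hom.toAlgebra
  letI : Algebra Γ(X, W) (X.presheaf.stalk x) := (X.presheaf.germ W x hxW).hom.toAlgebra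
  haveI : IsLocalization.AtPrime (Y.presheaf.stalk (f.base x)) p := hV.isLocalization_stalk ⟨f.base x, hxV⟩
  haveI : IsLocalization.AtPrime (X.presheaf.stalk x) q := hW.isLocalization_stalk ⟨x, hxW⟩
  let e₁ := (IsLocalization.algEquiv p.primeCompl (Localization.AtPrime p) (Y.presheaf.stalk (f.base x))).toRingEquiv
  let e₂ := (IsLocalization.algEquiv q.primeCompl (X.presheaf.stalk x) (Localization.AtPrime q)).toRingEquiv
  haveI := hd
  obtain ⟨h1, h2⟩ := etale_atPrime p q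
    (congrArg PrimeSpectrum.asIdeal (IsAffineOpen.comap_primeIdealOf_appLE (f := f) V hV W hW hWV hxW))
    (e₁.toMulEquiv.isDomain _) (GeomUnib.isGeomUnibranch_of_ringEquiv e₁ hg)
  haveI := h1
  exact ⟨e₂.toMulEquiv.isDomain _, GeomUnib.isGeomUnibranch_of_ringEquiv e₂ h2⟩

/-- Unramified + dominating at a geometrically unibranch point of an integral base: etale nearby. -/
theorem exists_etale_nhd [IsIntegral Y] [LocallyOfFiniteType f] (x : X)
    (hY : CAlg2.IsGeomUnibranch (Y.presheaf.stalk (f.base x)))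
    (hsp : ∃ x' : X, x' ⤳ x ∧ f.base x' = genericPoint Y)
    (hunr : ∃ U : X.Opens, x ∈ U ∧ FormallyUnramified (U.ι ≫ f)) :
    ∃ U : X.Opens, x ∈ U ∧ Etale (U.ι ≫ f) := by
  obtain ⟨U, hxU, hU⟩ := hunr
  obtain ⟨V, hV, W, hW, hWV, hxW, hWU⟩ := exists_chart f x U hxU
  have hfu := unram_appLE_of_le f hU hV hW hWV hWU
  have hft := f.finiteType_appLE hV hW hWV
  algebraize [(f.appLE V W hWV).hom]
  have hxV : f.base x ∈ V := hWV hxW
  let p := (hV.primeIdealOf ⟨f.base x, hxV⟩).asIdeal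
  let q := (hW.primeIdealOf ⟨x, hxW⟩).asIdeal
  haveI : Algebra.IsUnramifiedAt Γ(Y, V) q := by
    haveI : Algebra.FormallyUnramified Γ(X, W) (Localization.AtPrime q) :=
      Algebra.FormallyUnramified.of_isLocalization q.primeCompl
    exact Algebra.FormallyUnramified.comp Γ(Y, V) Γ(X, W) (Localization.AtPrime q)
  haveI : Nonempty V := ⟨⟨_, hxV⟩⟩
  haveI : IsDomain Γ(Y, V) := inferInstance
  have hpq : q.comap (algebraMap Γ(Y, V) Γ(X, W)) = p :=
    congrArg PrimeSpectrum.asIdeal (IsAffineOpen.comap_primeIdealOf_appLE (f := f) V hV W hW hWV hxW)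
  letI : Algebra Γ(Y, V) (Y.presheaf.stalk (f.base x)) := (Y.presheaf.germ V (f.base x) hxV).hom.toAlgebra
  haveI : IsLocalization.AtPrime (Y.presheaf.stalk (f.base x)) p := hV.isLocalization_stalk ⟨f.base x, hxV⟩
  let e₁ := (IsLocalization.algEquiv p.primeCompl (Localization.AtPrime p) (Y.presheaf.stalk (f.base x))).toRingEquiv
  have hg : CAlg2.IsGeomUnibranch (Localization.AtPrime (q.comap (algebraMap Γ(Y, V) Γ(X, W)))) := by
    have h := GeomUnib.isGeomUnibranch_of_ringEquiv e₁ hY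
    convert! h using 3
  obtain ⟨x', hx'x, hx'η⟩ := hsp
  have hx'W : x' ∈ W := hx'x.mem_open W.2 hxW
  let m := (hW.primeIdealOf ⟨x', hx'W⟩).asIdeal
  have hle : m ≤ q := by
    refine (PrimeSpectrum.le_iff_specializes _ _).2 (hW.fromSpec.isOpenEmbedding.toIsInducing.specializes_iff.1 ?_)
    rw [hW.fromSpec_primeIdealOf, hW.fromSpec_primeIdealOf]
    exact hx'x
  have hm : m.comap (algebraMap Γ(Y, V) Γ(X, W)) = ⊥ := by
    have h := congrArg PrimeSpectrum.asIdeal
      (IsAffineOpen.comap_primeIdealOf_appLE (f := f) V hV W hW hWV hx'W)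
    refine h.trans ?_
    have hv : (⟨f.base x', hWV hx'W⟩ : V) = ⟨genericPoint Y, hx'η ▸ hWV hx'W⟩ := Subtype.ext hx'η
    refine (congrArg (fun v : V => (hV.primeIdealOf v).asIdeal) hv).trans ?_
    haveI : IsAffine (V : Scheme.{u}) := hV
    rw [hV.primeIdealOf_genericPoint]
    exact congrArg PrimeSpectrum.asIdeal (genericPoint_eq_bot_of_affine Γ(Y, V))
  obtain ⟨g, hg', het⟩ := exists_etale_away_of_unramified q hg m hle hm
  have hxg : x ∈ X.basicOpen g := by
    rw [← hW.fromSpec_image_basicOpen g]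
    exact ⟨hW.primeIdealOf ⟨x, hxW⟩, hg', hW.fromSpec_primeIdealOf ⟨x, hxW⟩⟩
  refine ⟨X.basicOpen g, hxg, ?_⟩
  have hU' := hW.basicOpen g
  have e' : X.basicOpen g ≤ f ⁻¹ᵁ V := (X.basicOpen_le g).trans hWV
  haveI := hW.isLocalization_basicOpen g
  have het' : (f.appLE V (X.basicOpen g) e').hom.Etale := by
    rw [← f.appLE_map hWV (homOfLE (X.basicOpen_le g)).op, CommRingCat.hom_comp]
    have hcomp : (X.presheaf.map (homOfLE (X.basicOpen_le g)).op).hom =
        (IsLocalization.algEquiv (Submonoid.powers g) (Localization.Away g)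
          Γ(X, X.basicOpen g)).toRingEquiv.toRingHom.comp
        (algebraMap Γ(X, W) (Localization.Away g)) := by
      ext z
      exact ((IsLocalization.algEquiv (Submonoid.powers g) (Localization.Away g)
          Γ(X, X.basicOpen g)).commutes z).symm
    rw [hcomp, RingHom.comp_assoc]
    refine RingHom.Etale.respectsIso.1 _ _ ?_
    have h2 := RingHom.etale_algebraMap.2 het
    rwa [IsScalarTower.algebraMap_eq Γ(Y, V) Γ(X, W) (Localization.Away g), RingHom.algebraMap_toAlgebra] at h2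
  haveI : Etale (Spec.map (f.appLE V (X.basicOpen g) e')) := (HasRingHomProperty.Spec_iff (P := @Etale)).mpr het'
  rw [← hU'.isoSpec_hom_fromSpec, Category.assoc, ← hV.SpecMap_appLE_fromSpec f hU' e']
  infer_instance

theorem eq_of_specializes_of_etale [Etale f] {a b : X} (h : a ⤳ b) (he : f.base a = f.base b) : a = b := by
  obtain ⟨V, hV, W, hW, hWV, hbW, -⟩ := exists_chart f b ⊤ trivial
  have het := f.etale_appLE hV hW hWV
  algebraize [(f.appLE V W hWV).hom]
  have haW : a ∈ W := h.mem_open W.2 hbW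
  have hle : (hW.primeIdealOf ⟨a, haW⟩).asIdeal ≤ (hW.primeIdealOf ⟨b, hbW⟩).asIdeal := by
    refine (PrimeSpectrum.le_iff_specializes _ _).2 (hW.fromSpec.isOpenEmbedding.toIsInducing.specializes_iff.1 ?_)
    rw [hW.fromSpec_primeIdealOf, hW.fromSpec_primeIdealOf]
    exact h
  have e := Algebra.QuasiFinite.eq_of_le_of_under_eq (R := Γ(Y, V)) _ _ hle (by
    refine (congrArg PrimeSpectrum.asIdeal (IsAffineOpen.comap_primeIdealOf_appLE (f := f) V hV W hW hWV haW)).trans
      (Eq.trans ?_ (congrArg PrimeSpectrum.asIdeal (IsAffineOpen.comap_primeIdealOf_appLE (f := f) V hV W hW hWV hbW)).symm)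
    exact congrArg (fun v : V => (hV.primeIdealOf v).asIdeal) (Subtype.ext he))
  have e2 := congrArg hW.fromSpec (PrimeSpectrum.ext e : hW.primeIdealOf ⟨a, haW⟩ = hW.primeIdealOf ⟨b, hbW⟩)
  rwa [hW.fromSpec_primeIdealOf, hW.fromSpec_primeIdealOf] at e2

/-- Over an irreducible base with geometrically unibranch points, the maximal generizations are unique. -/
theorem generization_unique [IrreducibleSpace Y] [Etale f] (x : X)
    (hY : CAlg2.IsGeomUnibranch (Y.presheaf.stalk (f.base x))) {z₁ z₂ : X} (h₁ : z₁ ⤳ x) (h₂ : z₂ ⤳ x)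
    (hm₁ : ∀ z', z' ⤳ z₁ → z' = z₁) (hm₂ : ∀ z', z' ⤳ z₂ → z' = z₂) : z₁ = z₂ := by
  obtain ⟨V, hV, W, hW, hWV, hxW, -⟩ := exists_chart f x ⊤ trivial
  have het := f.etale_appLE hV hW hWV
  algebraize [(f.appLE V W hWV).hom]
  have hxV : f.base x ∈ V := hWV hxW
  let p := (hV.primeIdealOf ⟨f.base x, hxV⟩).asIdeal
  let q := (hW.primeIdealOf ⟨x, hxW⟩).asIdeal
  have hpq : q.comap (algebraMap Γ(Y, V) Γ(X, W)) = p :=
    congrArg PrimeSpectrum.asIdeal (IsAffineOpen.comap_primeIdealOf_appLE (f := f) V hV W hW hWV hxW)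
  letI : Algebra Γ(Y, V) (Y.presheaf.stalk (f.base x)) := (Y.presheaf.germ V (f.base x) hxV).hom.toAlgebra
  haveI : IsLocalization.AtPrime (Y.presheaf.stalk (f.base x)) p := hV.isLocalization_stalk ⟨f.base x, hxV⟩
  let e₁ := (IsLocalization.algEquiv p.primeCompl (Localization.AtPrime p) (Y.presheaf.stalk (f.base x))).toRingEquiv
  have hg : CAlg2.IsGeomUnibranch (Localization.AtPrime (q.comap (algebraMap Γ(Y, V) Γ(X, W)))) := by
    have h := GeomUnib.isGeomUnibranch_of_ringEquiv e₁ hY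
    convert! h using 3
  haveI : Nonempty V := ⟨⟨_, hxV⟩⟩
  have hηV : genericPoint Y ∈ V := ((genericPoint_spec Y).specializes (Set.mem_univ _)).mem_open V.2 hxV
  have hn : (nilradical Γ(Y, V)).IsPrime := by
    let P := hV.primeIdealOf ⟨genericPoint Y, hηV⟩
    have hle : ∀ Q : PrimeSpectrum Γ(Y, V), P.asIdeal ≤ Q.asIdeal := fun Q => by
      refine (PrimeSpectrum.le_iff_specializes _ _).2 (hV.fromSpec.isOpenEmbedding.toIsInducing.specializes_iff.1 ?_)
      rw [hV.fromSpec_primeIdealOf]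
      exact (genericPoint_spec Y).specializes (Set.mem_univ _)
    have : nilradical Γ(Y, V) = P.asIdeal := by
      refine le_antisymm (haveI := P.2; nilradical_le_prime _) ?_
      rw [nilradical_eq_sInf]
      exact le_sInf fun Q hQ => hle ⟨Q, hQ⟩
    rw [this]; exact P.2
  have key : ∀ z : X, z ⤳ x → (∀ z', z' ⤳ z → z' = z) → ∃ hz : z ∈ W,
      (hW.primeIdealOf ⟨z, hz⟩).asIdeal ∈ minimalPrimes Γ(X, W) ∧ (hW.primeIdealOf ⟨z, hz⟩).asIdeal ≤ q := by
    intro z hzx hm
    have hzW : z ∈ W := hzx.mem_open W.2 hxW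
    refine ⟨hzW, ⟨⟨(hW.primeIdealOf ⟨z, hzW⟩).2, bot_le⟩, fun b hb hbz => ?_⟩, ?_⟩
    · let P : PrimeSpectrum Γ(X, W) := ⟨b, hb.1⟩
      have hs : hW.fromSpec P ⤳ z := by
        have := ((PrimeSpectrum.le_iff_specializes P (hW.primeIdealOf ⟨z, hzW⟩)).1 hbz).map hW.fromSpec.continuous
        rwa [hW.fromSpec_primeIdealOf] at this
      have he := hm _ hs
      have : P = hW.primeIdealOf ⟨z, hzW⟩ :=
        hW.fromSpec.isOpenEmbedding.injective (he.trans (hW.fromSpec_primeIdealOf ⟨z, hzW⟩).symm)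
      exact this ▸ le_rfl
    · refine (PrimeSpectrum.le_iff_specializes _ _).2 (hW.fromSpec.isOpenEmbedding.toIsInducing.specializes_iff.1 ?_)
      rw [hW.fromSpec_primeIdealOf, hW.fromSpec_primeIdealOf]
      exact hzx
  obtain ⟨hz₁, hm₁', hq₁⟩ := key z₁ h₁ hm₁
  obtain ⟨hz₂, hm₂', hq₂⟩ := key z₂ h₂ hm₂
  have e := minimalPrime_unique_of_etale hn q hg _ _ hm₁' hm₂' hq₁ hq₂
  have e2 := congrArg hW.fromSpec (PrimeSpectrum.ext e : hW.primeIdealOf ⟨z₁, hz₁⟩ = hW.primeIdealOf ⟨z₂, hz₂⟩)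
  rwa [hW.fromSpec_primeIdealOf, hW.fromSpec_primeIdealOf] at e2

theorem exists_gen_over_generic [IrreducibleSpace Y] [Etale f] (x : X) :
    ∃ z : X, z ⤳ x ∧ f.base z = genericPoint Y ∧ ∀ z', z' ⤳ z → z' = z := by
  obtain ⟨z, hzx, hz⟩ := Flat.generalizingMap f ((genericPoint_spec Y).specializes (Set.mem_univ (f.base x)))
  refine ⟨z, hzx, hz, fun z' hz' => eq_of_specializes_of_etale f hz' ?_⟩
  rw [hz]
  exact ((hz'.map f.continuous).trans (specializes_of_eq hz)).antisymm ((genericPoint_spec Y).specializes (Set.mem_univ _)) |>.eq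

theorem eq_of_specializes_generic [IrreducibleSpace Y] [Etale f] {z z' : X} (hz : f.base z = genericPoint Y)
    (h : z' ⤳ z) : z' = z :=
  eq_of_specializes_of_etale f h (((h.map f.continuous).trans (specializes_of_eq hz)).antisymm
    ((genericPoint_spec Y).specializes (Set.mem_univ _)) |>.eq.trans hz.symm)

theorem isOpen_closure_generic [IrreducibleSpace Y] [Etale f]
    (hY : ∀ y : Y, CAlg2.IsGeomUnibranch (Y.presheaf.stalk y)) (z : X) (hz : f.base z = genericPoint Y) :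
    IsOpen (closure ({z} : Set X)) := by
  refine isOpen_iff_forall_mem_open.2 fun x hx => ?_
  obtain ⟨V, hV, W, hW, hWV, hxW, -⟩ := exists_chart f x ⊤ trivial
  have het := f.etale_appLE hV hW hWV
  algebraize [(f.appLE V W hWV).hom]
  have hηV : genericPoint Y ∈ V := ((genericPoint_spec Y).specializes (Set.mem_univ _)).mem_open V.2 (hWV hxW)
  let F : Set X := {z' | z' ∈ W ∧ f.base z' = genericPoint Y}
  have hF : F.Finite := by
    refine ((Algebra.QuasiFinite.finite_comap_preimage_singleton (R := Γ(Y, V)) (S := Γ(X, W))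
      (hV.primeIdealOf ⟨genericPoint Y, hηV⟩)).image hW.fromSpec).subset fun z' hz' => ?_
    refine ⟨hW.primeIdealOf ⟨z', hz'.1⟩, ?_, hW.fromSpec_primeIdealOf _⟩
    exact (IsAffineOpen.comap_primeIdealOf_appLE (f := f) V hV W hW hWV hz'.1).trans
      (congrArg hV.primeIdealOf (Subtype.ext hz'.2))
  let Bad : Set X := ⋃ z' ∈ F \ {z}, closure {z'}
  have hBad : IsClosed Bad := (hF.subset Set.sdiff_subset).isClosed_biUnion fun _ _ => isClosed_closure
  have huniq : ∀ w : X, ∀ z₁ z₂, z₁ ⤳ w → z₂ ⤳ w → f.base z₁ = genericPoint Y → f.base z₂ = genericPoint Y → z₁ = z₂ :=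
    fun w z₁ z₂ h₁ h₂ e₁ e₂ => generization_unique f w (hY _) h₁ h₂ (fun _ => eq_of_specializes_generic f e₁)
      (fun _ => eq_of_specializes_generic f e₂)
  refine ⟨(W : Set X) \ Bad, fun w hw => ?_, W.2.sdiff hBad, hxW, fun hxB => ?_⟩
  · obtain ⟨z', hz'w, hz'η, -⟩ := exists_gen_over_generic f w
    by_cases e : z' = z
    · exact e ▸ hz'w.mem_closure
    · exact absurd (Set.mem_iUnion₂.2 ⟨z', ⟨⟨hz'w.mem_open W.2 hw.1, hz'η⟩, e⟩, hz'w.mem_closure⟩) hw.2
  · obtain ⟨z', ⟨hz', hne⟩, hc⟩ := Set.mem_iUnion₂.1 hxB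
    exact hne (huniq x z' z (specializes_iff_mem_closure.2 hc) (specializes_iff_mem_closure.2 hx) hz'.2 hz)

theorem components_etale [IrreducibleSpace Y] [Etale f]
    (hY : ∀ y : Y, CAlg2.IsGeomUnibranch (Y.presheaf.stalk y)) :
    (∀ x : X, ∃! Z, Z ∈ irreducibleComponents ↥X ∧ x ∈ Z) ∧
    (∀ Z ∈ irreducibleComponents ↥X, IsOpen Z ∧ ∃! x : X, x ∈ Z ∧ f.base x = genericPoint Y) := by
  have hgen : ∀ Z ∈ irreducibleComponents ↥X, ∃ z, f.base z = genericPoint Y ∧ closure {z} = Z := by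
    intro Z hZ
    obtain ⟨g, hg⟩ := QuasiSober.sober hZ.1 (isClosed_of_mem_irreducibleComponents Z hZ)
    obtain ⟨z, hzg, hz, -⟩ := exists_gen_over_generic f g
    refine ⟨z, hz, ?_⟩
    have hsub : Z ⊆ closure {z} := hg.symm.le.trans
      (closure_minimal (Set.singleton_subset_iff.2 hzg.mem_closure) isClosed_closure)
    exact le_antisymm (hZ.2 (isIrreducible_singleton.closure) hsub) hsub
  have hcomp : ∀ z, f.base z = genericPoint Y → closure ({z} : Set X) ∈ irreducibleComponents ↥X := by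
    intro z hz
    refine ⟨isIrreducible_singleton.closure, fun T hT hsub => ?_⟩
    obtain ⟨g, hg⟩ := QuasiSober.sober hT.closure isClosed_closure
    have hgz : g ⤳ z := hg.specializes (subset_closure (hsub (subset_closure rfl)))
    rw [eq_of_specializes_generic f hz hgz] at hg
    exact subset_closure.trans hg.symm.le
  refine ⟨fun x => ?_, fun Z hZ => ?_⟩
  · obtain ⟨z, hzx, hz, -⟩ := exists_gen_over_generic f x
    refine ⟨closure {z}, ⟨hcomp z hz, hzx.mem_closure⟩, ?_⟩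
    rintro Z ⟨hZ, hxZ⟩
    obtain ⟨z', hz', rfl⟩ := hgen Z hZ
    rw [generization_unique f x (hY _) (specializes_iff_mem_closure.2 hxZ) hzx
      (fun _ => eq_of_specializes_generic f hz') (fun _ => eq_of_specializes_generic f hz)]
  · obtain ⟨z, hz, rfl⟩ := hgen Z hZ
    refine ⟨isOpen_closure_generic f hY z hz, z, ⟨subset_closure rfl, hz⟩, fun w hw => ?_⟩
    exact (eq_of_specializes_of_etale f (specializes_iff_mem_closure.2 hw.1) (hz.trans hw.2.symm)).symm

end Groth.Agent.UnibFib
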