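import Groth.Agent.GeomUnib.UnibDomain
import Groth.Agent.GeomUnib.Converse
import Groth.Agent.HenselLib.EtaleNormal
import Mathlib.RingTheory.Smooth.IntegralClosure
import Mathlib.AlgebraicGeometry.Morphisms.Etale
import Mathlib.RingTheory.Localization.LocalizationLocalization

/-!
# Etale algebras over geometrically unibranch local domains
-/

set_option autoImplicit false
universe u
open TensorProduct

namespace Groth.Agent.UnibFib

theorem exists_idempotent_of_maximal {F : Type u} [CommRing F] [IsArtinianRing F] [IsReduced F]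
    (P : Ideal F) [P.IsMaximal] : ∃ e : F, IsIdempotentElem e ∧ e - 1 ∈ P ∧ ∀ y ∈ P, e * y = 0 := by
  classical
  let ψ := IsArtinianRing.equivPi F
  let i : MaximalSpectrum F := ⟨P, inferInstance⟩
  have hψ : ∀ (x : F) (I : MaximalSpectrum F), ψ x I = Ideal.Quotient.mk I.asIdeal x := fun x I => by
    have h := congrFun (ψ.commutes x) I
    rwa [Algebra.algebraMap_self, RingHom.id_apply] at h
  refine ⟨ψ.symm (Pi.single i 1), ?_, ?_, fun y hy => ψ.injective ?_⟩
  · refine ψ.injective ?_
    rw [map_mul, AlgEquiv.apply_symm_apply, ← Pi.single_mul, one_mul]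
  · rw [← Ideal.Quotient.eq, ← hψ _ i, AlgEquiv.apply_symm_apply, Pi.single_eq_same, map_one]
  · rw [map_mul, AlgEquiv.apply_symm_apply, map_zero]
    funext I
    by_cases h : I = i
    · subst h
      simp [hψ]
      exact Ideal.Quotient.eq_zero_iff_mem.2 hy
    · simp [Pi.single_eq_of_ne h]

theorem etale_geomUnibranch {A : Type u} [CommRing A] [IsDomain A] [IsLocalRing A]
    (hA : CAlg2.IsGeomUnibranch A) {E : Type u} [CommRing E] [Algebra A E] [Algebra.Etale A E]
    (Q : Ideal E) [Q.IsPrime] (hQ : Q.comap (algebraMap A E) = IsLocalRing.maximalIdeal A) :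
    IsDomain (Localization.AtPrime Q) ∧ CAlg2.IsGeomUnibranch (Localization.AtPrime Q) := by
  let K := FractionRing A
  let A' := integralClosure A K
  haveI : IsFractionRing A' K := IsIntegralClosure.isFractionRing_of_finite_extension A K K A'
  haveI : IsIntegrallyClosed A' := integralClosure.isIntegrallyClosedOfFiniteExtension K
  have hinj : Function.Injective (algebraMap A A') := fun a b h =>
    IsFractionRing.injective A K (congrArg Subtype.val h)
  have hrad : GeomUnib.RadicialAt A' (IsLocalRing.maximalIdeal A) :=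
    GeomUnib.radicialAt_of_isGeomUnibranch (K := K) hA (RingHom.id A) Function.surjective_id
      (by rw [(RingHom.injective_iff_ker_eq_bot _).1 Function.injective_id]; exact bot_le) A'
  haveI hdomQ : IsDomain (Localization.AtPrime Q) := by
    let e0 : MvPolynomial (Fin 0) A ≃ₐ[A] A := MvPolynomial.isEmptyAlgEquiv A (Fin 0)
    letI : Algebra (MvPolynomial (Fin 0) A) E := ((algebraMap A E).comp e0.toRingEquiv.toRingHom).toAlgebra
    haveI : IsScalarTower A (MvPolynomial (Fin 0) A) E := IsScalarTower.of_algebraMap_eq fun a => by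
      show _ = algebraMap A E (e0 (algebraMap A _ a))
      rw [e0.commutes]; rfl
    haveI : Algebra.Etale (MvPolynomial (Fin 0) A) E := by
      rw [← RingHom.etale_algebraMap, RingHom.algebraMap_toAlgebra]
      exact RingHom.Etale.stableUnderComposition e0.toRingEquiv.toRingHom (algebraMap A E)
        (RingHom.Etale.of_bijective e0.toRingEquiv.bijective) (RingHom.etale_algebraMap.2 inferInstance)
    exact GeomUnib.isDomain_localization_of_radicialAt (A' := A') (n := 0) hinj Q (hQ ▸ hrad)
  refine ⟨hdomQ, ?_⟩
  let B := Localization.AtPrime Q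
  let L := FractionRing B
  haveI : IsDomain B := hdomQ
  have hAE : ∀ a : A, a ≠ 0 → algebraMap A B a ≠ 0 := fun a ha h => by
    rw [IsScalarTower.algebraMap_apply A E B, IsLocalization.map_eq_zero_iff Q.primeCompl] at h
    obtain ⟨⟨t, ht⟩, h⟩ := h
    have hne : Nontrivial E := ⟨⟨0, 1, fun e => ht (by rw [← mul_one t, ← e, mul_zero]; exact zero_mem _)⟩⟩
    have h2 : t * algebraMap A E a = 0 := h
    have : a ∈ nonZeroDivisors A := mem_nonZeroDivisors_of_ne_zero ha
    have hreg : IsSMulRegular E a := Module.Flat.isSMulRegular_of_isRegular (isRegular_iff_mem_nonZeroDivisors.2 this)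
    have h3 : t = 0 := hreg (by
      show a • t = a • (0 : E)
      rw [smul_zero, Algebra.smul_def, mul_comm]; exact h2)
    exact ht (h3 ▸ zero_mem _)
  have hAL : Function.Injective (algebraMap A L) := by
    refine (injective_iff_map_eq_zero _).2 fun a h => by_contra fun ha => hAE a ha ?_
    rw [IsScalarTower.algebraMap_apply A B L] at h
    exact (map_eq_zero_iff _ (IsFractionRing.injective B L)).1 h
  letI : Algebra K L := (IsFractionRing.lift hAL).toAlgebra
  haveI : IsScalarTower A K L := IsScalarTower.of_algebraMap_eq fun a => (IsFractionRing.lift_algebraMap hAL a).symm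
  let F := E ⊗[A] K
  let φ : F →ₐ[A] L := Algebra.TensorProduct.lift (IsScalarTower.toAlgHom A E L) (IsScalarTower.toAlgHom A K L)
    fun _ _ => Commute.all _ _
  haveI : Module.Finite K (K ⊗[A] E) := Algebra.FormallyUnramified.finite_of_free K (K ⊗[A] E)
  haveI : IsArtinianRing (K ⊗[A] E) := IsArtinianRing.of_finite K (K ⊗[A] E)
  haveI : IsArtinianRing F := (Algebra.TensorProduct.comm A K E).toRingEquiv.isArtinianRing
  haveI : _root_.IsReduced (K ⊗[A] E) := HenselLib.isReduced_of_etale K (K ⊗[A] E)
  haveI : _root_.IsReduced F := isReduced_of_injective (Algebra.TensorProduct.comm A E K).toRingEquiv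
    (Algebra.TensorProduct.comm A E K).toRingEquiv.injective
  haveI : (RingHom.ker φ).IsPrime := RingHom.ker_isPrime _
  haveI : (RingHom.ker φ).IsMaximal := Ideal.IsPrime.isMaximal' inferInstance
  obtain ⟨e, he, he1, hekill⟩ := exists_idempotent_of_maximal (RingHom.ker φ)
  have hφe : φ e = 1 := by
    rw [RingHom.mem_ker, map_sub, map_one, sub_eq_zero] at he1
    exact he1
  have hφE : ∀ s : E, φ (s ⊗ₜ 1) = algebraMap E L s := fun s =>
    (Algebra.TensorProduct.lift_tmul _ _ _ s 1).trans (by rw [map_one, mul_one]; rfl)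
  have hsurj : Function.Surjective φ := by
    intro l
    obtain ⟨n, d, hd, rfl⟩ := IsFractionRing.div_surjective B l
    obtain ⟨n₀, s, rfl⟩ := IsLocalization.exists_mk'_eq Q.primeCompl n
    obtain ⟨d₀, t, rfl⟩ := IsLocalization.exists_mk'_eq Q.primeCompl d
    have hfield : ∀ z : F, φ z ≠ 0 → ∃ w, φ z * φ w = 1 := fun z hz => by
      letI := Ideal.Quotient.field (RingHom.ker φ)
      obtain ⟨w, hw⟩ := Ideal.Quotient.mk_surjective (Ideal.Quotient.mk (RingHom.ker φ) z)⁻¹
      refine ⟨w, ?_⟩
      have h1 : Ideal.Quotient.mk (RingHom.ker φ) (z * w) = Ideal.Quotient.mk _ 1 := by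
        rw [map_mul, hw, map_one, mul_inv_cancel₀]
        exact fun h => hz (RingHom.mem_ker.1 (Ideal.Quotient.eq_zero_iff_mem.1 h))
      have := Ideal.Quotient.eq.1 h1
      rw [RingHom.mem_ker, map_sub, map_mul, map_one, sub_eq_zero] at this
      exact this
    have hmk : ∀ (x : E) (y : Q.primeCompl), ∃ z, φ z = algebraMap B L (IsLocalization.mk' B x y) := fun x y => by
      have hy0 : φ (y.1 ⊗ₜ 1) ≠ 0 := by
        rw [hφE, IsScalarTower.algebraMap_apply E B L]
        exact fun h => (IsLocalization.map_units B y).ne_zero ((map_eq_zero_iff _ (IsFractionRing.injective B L)).1 h)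
      obtain ⟨w, hw⟩ := hfield _ hy0
      refine ⟨x ⊗ₜ 1 * w, ?_⟩
      have hx : algebraMap B L (IsLocalization.mk' B x y) * φ (y.1 ⊗ₜ 1) = φ (x ⊗ₜ 1) := by
        rw [hφE, hφE, IsScalarTower.algebraMap_apply E B L, IsScalarTower.algebraMap_apply E B L, ← map_mul,
          IsLocalization.mk'_spec]
      rw [map_mul, ← hx, mul_assoc, hw, mul_one]
    obtain ⟨zn, hzn⟩ := hmk n₀ s
    obtain ⟨zd, hzd⟩ := hmk d₀ t
    have hd0 : φ zd ≠ 0 := by
      rw [hzd]
      exact fun h => nonZeroDivisors.ne_zero hd ((map_eq_zero_iff _ (IsFractionRing.injective B L)).1 h)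
    obtain ⟨w, hw⟩ := hfield zd hd0
    refine ⟨zn * w, ?_⟩
    rw [map_mul, ← hzn, ← hzd, div_eq_mul_inv, ← eq_inv_of_mul_eq_one_right hw]
  let C := integralClosure B L
  refine GeomUnib.isGeomUnibranch_of_radicialAt (K := L) C ?_
  intro M _ χ₁ χ₂ hχ hk
  let toC : A' →+* C :=
    ((algebraMap K L).comp (algebraMap A' K)).codRestrict C fun x =>
      ((x.2 : IsIntegral A (x : K)).map (IsScalarTower.toAlgHom A K L)).tower_top
  have hAC : ∀ a, toC (algebraMap A A' a) = algebraMap B C (algebraMap A B a) := fun a => Subtype.ext (by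
    show algebraMap K L (algebraMap A K a) = algebraMap B L (algebraMap A B a)
    rw [← IsScalarTower.algebraMap_apply A K L, ← IsScalarTower.algebraMap_apply A B L])
  have hA' : χ₁.comp toC = χ₂.comp toC := hrad M _ _
    (RingHom.ext fun a => by
      show χ₁ (toC (algebraMap A A' a)) = χ₂ (toC (algebraMap A A' a))
      rw [hAC]; exact RingHom.congr_fun hχ _)
    (by
      have : (χ₁.comp toC).comp (algebraMap A A') = (χ₁.comp (algebraMap B C)).comp (algebraMap A B) :=
        RingHom.ext fun a => congrArg χ₁ (hAC a)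
      rw [this, ← RingHom.comap_ker, hk, IsScalarTower.algebraMap_eq A E B, ← Ideal.comap_comap,
        ← hQ]
      exact congrArg (Ideal.comap (algebraMap A E)) (IsLocalization.AtPrime.under_maximalIdeal B Q))
  refine RingHom.ext fun c => ?_
  obtain ⟨⟨s, hs⟩, hsc⟩ := IsIntegral.exists_multiple_integral_of_isLocalization (R := E) Q.primeCompl (c : L) c.2
  obtain ⟨x, hx⟩ := hsurj (s • (c : L))
  have hint : IsIntegral E (e * x) := by
    obtain ⟨P, hP, hPx⟩ := hsc
    let aE : E →+* F := algebraMap E F
    have h0 : P.eval₂ aE x ∈ RingHom.ker φ := by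
      rw [RingHom.mem_ker]
      have h := Polynomial.hom_eval₂ P aE φ.toRingHom x
      refine h.trans ?_
      have h1 : φ.toRingHom.comp aE = algebraMap E L := RingHom.ext hφE
      rw [h1, show φ.toRingHom x = s • (c : L) from hx]
      exact hPx
    refine ⟨Polynomial.X * P, Polynomial.monic_X.mul hP, ?_⟩
    have key : ∀ p : Polynomial E, e * p.eval₂ aE (e * x) = e * p.eval₂ aE x := fun p => by
      induction p using Polynomial.induction_on' with
      | add p q hp hq => simp [mul_add, hp, hq]
      | monomial n a =>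
        rw [Polynomial.eval₂_monomial, Polynomial.eval₂_monomial, mul_pow]
        rcases n with _ | m
        · simp
        · rw [he.pow_succ_eq, show e * (aE a * (e * x ^ (m + 1))) = (e * e) * (aE a * x ^ (m + 1)) by ring, he.eq]
    show (Polynomial.X * P).eval₂ aE (e * x) = 0
    rw [Polynomial.eval₂_mul, Polynomial.eval₂_X, mul_comm e x, mul_assoc, mul_comm x e, key, hekill _ h0, mul_zero]
  obtain ⟨w, hw⟩ := (TensorProduct.toIntegralClosure_bijective_of_smooth (R := A) (S := E) (B := K)).2 ⟨e * x, hint⟩
  have hw' : Algebra.TensorProduct.map (AlgHom.id E E) (integralClosure A K).val w = e * x :=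
    Eq.trans rfl (congrArg Subtype.val hw)
  have hs_eq : ∀ χ : C →+* M, χ (algebraMap B C (algebraMap E B s)) * χ c =
      χ (algebraMap B C (algebraMap E B s) * c) := fun χ => (map_mul χ _ _).symm
  have hmain : ∀ w : E ⊗[A] A', ∀ hz : φ (Algebra.TensorProduct.map (AlgHom.id E E) (integralClosure A K).val w) ∈ C,
      χ₁ ⟨_, hz⟩ = χ₂ ⟨_, hz⟩ := by
    intro w
    induction w with
    | zero => intro hz; simp only [map_zero]; exact (map_zero χ₁).trans (map_zero χ₂).symm
    | tmul a b =>
      intro hz
      have heq : (⟨_, hz⟩ : C) = algebraMap B C (algebraMap E B a) * toC b := Subtype.ext (by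
        show φ (Algebra.TensorProduct.map (AlgHom.id E E) (integralClosure A K).val (a ⊗ₜ b)) = algebraMap B L (algebraMap E B a) * algebraMap K L (b : K)
        rw [Algebra.TensorProduct.map_tmul, Algebra.TensorProduct.lift_tmul, ← IsScalarTower.algebraMap_apply E B L]
        rfl)
      rw [heq, map_mul, map_mul]
      exact congrArg₂ (· * ·) (RingHom.congr_fun hχ _) (RingHom.congr_fun hA' b)
    | add p q hp hq =>
      intro hz
      have hint' : ∀ r : E ⊗[A] A', φ (Algebra.TensorProduct.map (AlgHom.id E E) (integralClosure A K).val r) ∈ C := by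
        intro r
        induction r with
        | zero => simp
        | tmul a b =>
          rw [Algebra.TensorProduct.map_tmul, Algebra.TensorProduct.lift_tmul]
          refine C.mul_mem ?_ (toC b).2
          show algebraMap E L a ∈ C
          rw [IsScalarTower.algebraMap_apply E B L]
          exact C.algebraMap_mem _
        | add p q hp hq => rw [map_add, map_add]; exact C.add_mem hp hq
      have heq : (⟨_, hz⟩ : C) = ⟨_, hint' p⟩ + ⟨_, hint' q⟩ := Subtype.ext (by
        show φ _ = φ _ + φ _
        rw [map_add, map_add])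
      rw [heq, map_add, map_add, hp, hq]
  have hval : φ (Algebra.TensorProduct.map (AlgHom.id E E) (integralClosure A K).val w) = s • (c : L) := by
    rw [hw', map_mul, hφe, one_mul, hx]
  have hmemC : φ (Algebra.TensorProduct.map (AlgHom.id E E) (integralClosure A K).val w) ∈ C := by
    rw [hval, Algebra.smul_def, IsScalarTower.algebraMap_apply E B L]
    exact C.mul_mem (C.algebraMap_mem _) c.2
  have h12 := hmain w hmemC
  have heq : (⟨_, hmemC⟩ : C) = algebraMap B C (algebraMap E B s) * c := Subtype.ext (by
    show φ _ = algebraMap B L (algebraMap E B s) * (c : L)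
    rw [hval, Algebra.smul_def, IsScalarTower.algebraMap_apply E B L])
  rw [heq, map_mul, map_mul, show χ₂ (algebraMap B C (algebraMap E B s)) = χ₁ (algebraMap B C (algebraMap E B s)) from
    (RingHom.congr_fun hχ _).symm] at h12
  exact mul_left_cancel₀ (((IsLocalization.map_units B (⟨s, hs⟩ : Q.primeCompl)).map (χ₁.comp (algebraMap B C))).ne_zero) h12

end Groth.Agent.UnibFib
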