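import Groth.Agent.UnibFib.GenericConn
import Groth.Agent.ChevAffine.Semilocal
import Mathlib.RingTheory.Flat.FaithfullyFlat.Algebra
import Mathlib.FieldTheory.PurelyInseparable.Basic

/-!
# Fibres of flat local homomorphisms over henselian local rings
-/

set_option autoImplicit false
universe u
open TensorProduct

namespace Groth.Agent.UnibFib

theorem connectedSpace_tensor_field (A B : Type u) [CommRing A] [IsLocalRing A] [IsNoetherianRing A]
    [CommRing B] [IsLocalRing B] [Algebra A B] [IsLocalHom (algebraMap A B)] [Module.Flat A B]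
    (hM : ∀ (κ : Type u) [Field κ] [Algebra A κ], _root_.IsReduced (B ⊗[A] κ))
    (K : Type u) [Field K] [Algebra A K]
    (hloc : ∀ [Nontrivial (B ⊗[A] integralClosure A K)], IsLocalRing (B ⊗[A] integralClosure A K)) :
    ConnectedSpace (PrimeSpectrum (K ⊗[A] B)) := by
  haveI : Module.FaithfullyFlat A B := Module.FaithfullyFlat.of_flat_of_isLocalHom
  haveI : Nontrivial (B ⊗[A] K) := Module.FaithfullyFlat.lTensor_nontrivial A B K
  have hinj : Function.Injective (NormalBase.incl (A := A) B (integralClosure A K) K) :=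
    NormalBase.incl_injective _ K Subtype.val_injective
  haveI : Nontrivial (B ⊗[A] integralClosure A K) :=
    (NormalBase.incl (A := A) B (integralClosure A K) K).toRingHom.domain_nontrivial
  haveI := hloc
  haveI : Nontrivial (B ⊗[A] A) := (NormalBase.incl (A := A) B A K).toRingHom.domain_nontrivial
  have hidem : ∀ e : B ⊗[A] K, IsIdempotentElem e → e = 0 ∨ e = 1 := fun e he => by
    have hz : (NormalBase.incl (A := A) B A K).toRingHom.IsIntegralElem e :=
      ⟨Polynomial.X ^ 2 - Polynomial.X, Polynomial.monic_X_pow_sub (by rw [Polynomial.degree_X]; norm_num), by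
        simp [sq, he.eq]⟩
    obtain ⟨w, hw⟩ := NormalBase.mem_range_integralClosure hM e hz
    have hwi : w * w = w := hinj (by rw [map_mul]; exact (congrArg₂ (· * ·) hw hw).trans (he.trans hw.symm))
    rcases IsLocalRing.isUnit_or_isUnit_one_sub_self w with h | h
    · exact Or.inr (by rw [← hw, h.mul_eq_left.1 hwi, map_one])
    · have : w = 0 := h.mul_right_eq_zero.1 (by rw [sub_mul, one_mul, hwi, sub_self])
      exact Or.inl (by rw [← hw, this, map_zero])
  haveI : PreconnectedSpace (PrimeSpectrum (B ⊗[A] K)) := by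
    rw [preconnectedSpace_iff_clopen]
    intro s hs
    obtain ⟨e, he, rfl⟩ := PrimeSpectrum.isClopen_iff.1 hs
    rcases hidem e he with rfl | rfl
    · exact Or.inl (by simp)
    · exact Or.inr (by simp)
  haveI : ConnectedSpace (PrimeSpectrum (B ⊗[A] K)) := { toNonempty := inferInstance }
  exact (PrimeSpectrum.homeomorphOfRingEquiv (Algebra.TensorProduct.comm A B K).toRingEquiv).surjective.connectedSpace
    (PrimeSpectrum.homeomorphOfRingEquiv (Algebra.TensorProduct.comm A B K).toRingEquiv).continuous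

/-- Integral domains over a henselian local ring with separably closed residue field are radicial over
the closed point. -/
theorem radicialAt_of_henselian_sepClosed (A C : Type u) [CommRing A] [HenselianLocalRing A]
    [IsSepClosed (IsLocalRing.ResidueField A)] [CommRing C] [IsDomain C] [Algebra A C] [Algebra.IsIntegral A C] :
    GeomUnib.RadicialAt C (IsLocalRing.maximalIdeal A) := by
  haveI : IsLocalRing C := ChevAffine.isLocalRing_of_henselian_of_isIntegral A C
  intro L _ χ₁ χ₂ e hk
  have hmax : ∀ χ : C →+* L, RingHom.ker (χ.comp (algebraMap A C)) = IsLocalRing.maximalIdeal A →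
      RingHom.ker χ = IsLocalRing.maximalIdeal C := fun χ h => by
    haveI : (RingHom.ker χ).IsPrime := RingHom.ker_isPrime χ
    exact IsLocalRing.eq_maximalIdeal (Ideal.isMaximal_of_isIntegral_of_isMaximal_comap (R := A) _
      (by rw [RingHom.comap_ker, h]; infer_instance))
  haveI : IsLocalHom (algebraMap A C) := ⟨fun a ha => by
    by_contra hu
    have h1 : a ∈ (IsLocalRing.maximalIdeal C).comap (algebraMap A C) := by
      rw [IsLocalRing.eq_maximalIdeal (Ideal.isMaximal_comap_of_isIntegral_of_isMaximal (R := A) (IsLocalRing.maximalIdeal C))]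
      exact hu
    exact (IsLocalRing.mem_maximalIdeal _).1 h1 ha⟩
  let k := IsLocalRing.ResidueField A
  let kC := IsLocalRing.ResidueField C
  haveI : Algebra.IsIntegral A kC := ⟨fun x => by
    obtain ⟨c, rfl⟩ := IsLocalRing.residue_surjective x
    exact (Algebra.IsIntegral.isIntegral c).map (IsScalarTower.toAlgHom A C kC)⟩
  haveI : Algebra.IsIntegral k kC := Algebra.IsIntegral.tower_top A
  haveI : Algebra.IsAlgebraic k kC := Algebra.IsIntegral.isAlgebraic
  haveI : IsPurelyInseparable k kC := inferInstance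
  have h₁ : RingHom.ker χ₁ = IsLocalRing.maximalIdeal C := hmax χ₁ hk
  have h₂ : RingHom.ker χ₂ = IsLocalRing.maximalIdeal C := hmax χ₂ (e ▸ hk)
  let q := ringExpChar k
  let ψ : k →+* L := Ideal.Quotient.lift (IsLocalRing.maximalIdeal A) (χ₁.comp (algebraMap A C)) fun a ha =>
    RingHom.mem_ker.1 (hk.symm ▸ ha)
  haveI : ExpChar L q := expChar_of_injective_ringHom ψ.injective q
  refine RingHom.ext fun x => ?_
  obtain ⟨n, r, hr⟩ := IsPurelyInseparable.pow_mem k q (IsLocalRing.residue C x)
  obtain ⟨a, rfl⟩ := IsLocalRing.residue_surjective r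
  have hmem : x ^ q ^ n - algebraMap A C a ∈ IsLocalRing.maximalIdeal C := by
    rw [← IsLocalRing.residue_eq_zero_iff, map_sub, map_pow, ← hr, sub_eq_zero]
    rfl
  have e1 := RingHom.mem_ker.1 (h₁.symm ▸ hmem : x ^ q ^ n - algebraMap A C a ∈ RingHom.ker χ₁)
  have e2 := RingHom.mem_ker.1 (h₂.symm ▸ hmem : x ^ q ^ n - algebraMap A C a ∈ RingHom.ker χ₂)
  rw [map_sub, map_pow, sub_eq_zero] at e1 e2
  apply iterateFrobenius_inj L q n
  rw [iterateFrobenius_def, iterateFrobenius_def, e1, e2]
  exact RingHom.congr_fun e a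

/-- With trivial residue field extension the tensor product with a local integral algebra is local. -/
theorem isLocalRing_tensor_of_residue_surjective {A B C : Type u} [CommRing A] [IsLocalRing A] [CommRing B]
    [IsLocalRing B] [Algebra A B] [IsLocalHom (algebraMap A B)] [CommRing C] [IsLocalRing C] [Algebra A C]
    [Algebra.IsIntegral A C] [Nontrivial (B ⊗[A] C)]
    (hres : Function.Surjective (IsLocalRing.ResidueField.map (algebraMap A B))) :
    IsLocalRing (B ⊗[A] C) := by
  let r : C →+* B ⊗[A] C := (Algebra.TensorProduct.includeRight : C →ₐ[A] B ⊗[A] C).toRingHom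
  have hB : ∀ b : B, ∃ a : A, b - algebraMap A B a ∈ IsLocalRing.maximalIdeal B := fun b => by
    obtain ⟨x, hx⟩ := hres (IsLocalRing.residue B b)
    obtain ⟨a, rfl⟩ := IsLocalRing.residue_surjective x
    refine ⟨a, ?_⟩
    rw [← IsLocalRing.residue_eq_zero_iff, map_sub, ← hx, sub_eq_zero]
    rfl
  let J : Ideal (B ⊗[A] C) := (IsLocalRing.maximalIdeal B).map (algebraMap B (B ⊗[A] C))
  have hdec : ∀ z : B ⊗[A] C, ∃ c : C, z - r c ∈ J := by
    intro z
    induction z with
    | zero => exact ⟨0, by simp⟩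
    | tmul b c =>
      obtain ⟨a, ha⟩ := hB b
      refine ⟨a • c, ?_⟩
      show b ⊗ₜ[A] c - (1 : B) ⊗ₜ[A] (a • c) ∈ J
      have : b ⊗ₜ[A] c - (1 : B) ⊗ₜ[A] (a • c) =
          ((1 : B) ⊗ₜ[A] c) * algebraMap B (B ⊗[A] C) (b - algebraMap A B a) := by
        rw [Algebra.TensorProduct.algebraMap_apply, Algebra.TensorProduct.tmul_mul_tmul, one_mul,
          Algebra.algebraMap_self, RingHom.id_apply, mul_one, TensorProduct.sub_tmul, ← smul_tmul,
          Algebra.smul_def, mul_one]
      rw [this]
      exact J.mul_mem_left _ (Ideal.mem_map_of_mem _ ha)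
    | add x y hx hy =>
      obtain ⟨c, hc⟩ := hx; obtain ⟨d, hd⟩ := hy
      exact ⟨c + d, by rw [map_add, add_sub_add_comm]; exact J.add_mem hc hd⟩
  refine IsLocalRing.of_unique_max_ideal ?_
  obtain ⟨Q₁, hQ₁⟩ := Ideal.exists_maximal (B ⊗[A] C)
  refine ⟨Q₁, hQ₁, fun Q₂ hQ₂ => ?_⟩
  have key : ∀ Q : Ideal (B ⊗[A] C), Q.IsMaximal → ∀ z c, z - r c ∈ J →
      (z ∈ Q ↔ c ∈ IsLocalRing.maximalIdeal C) := by
    intro Q hQ z c hzc
    have hJ : J ≤ Q := Ideal.map_le_iff_le_comap.2
      (IsLocalRing.eq_maximalIdeal (Ideal.isMaximal_comap_of_isIntegral_of_isMaximal (R := B) Q)).ge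
    have hmax : Q.comap r = IsLocalRing.maximalIdeal C := by
      refine IsLocalRing.eq_maximalIdeal ?_
      have hp : (Q.comap r).IsPrime := Ideal.IsPrime.comap _
      refine Ideal.isMaximal_of_isIntegral_of_isMaximal_comap (R := A) _ ?_
      rw [Ideal.comap_comap, show r.comp (algebraMap A C) = (algebraMap B (B ⊗[A] C)).comp (algebraMap A B) from
        RingHom.ext fun a => Algebra.TensorProduct.includeRight.commutes a, ← Ideal.comap_comap,
        IsLocalRing.eq_maximalIdeal (Ideal.isMaximal_comap_of_isIntegral_of_isMaximal (R := B) Q),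
        IsLocalRing.maximalIdeal_comap]
      infer_instance
    rw [← hmax, Ideal.mem_comap]
    exact ⟨fun h => by simpa using Q.sub_mem h (hJ hzc), fun h => by simpa using Q.add_mem (hJ hzc) h⟩
  ext z
  obtain ⟨c, hc⟩ := hdec z
  rw [key Q₁ hQ₁ z c hc, key Q₂ hQ₂ z c hc]

end Groth.Agent.UnibFib
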