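import Groth.Agent.UnibFib.EtaleUnib
import Groth.Agent.GeomUnib.AffineSpaceUnib
import Mathlib.RingTheory.Unramified.LocalStructure
import Mathlib.RingTheory.QuasiFinite.Basic

/-!
# Unramified algebras over geometrically unibranch domains
-/

set_option autoImplicit false
universe u
open TensorProduct

namespace Groth.Agent.UnibFib

attribute [local instance] Algebra.TensorProduct.rightAlgebra in
theorem etale_atPrime {R S : Type u} [CommRing R] [CommRing S] [Algebra R S] [Algebra.Etale R S]
    (p : Ideal R) [p.IsPrime] (Q : Ideal S) [Q.IsPrime] (hQ : Q.comap (algebraMap R S) = p)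
    (hd : IsDomain (Localization.AtPrime p)) (h : CAlg2.IsGeomUnibranch (Localization.AtPrime p)) :
    IsDomain (Localization.AtPrime Q) ∧ CAlg2.IsGeomUnibranch (Localization.AtPrime Q) := by
  let A := Localization.AtPrime p
  let E := A ⊗[R] S
  let M := Algebra.algebraMapSubmonoid S p.primeCompl
  haveI : IsLocalization M E := IsLocalization.tensorRight A p.primeCompl
  have hdisj : Disjoint (M : Set S) Q := Set.disjoint_left.mpr fun x hx hxQ => by
    obtain ⟨r, hr, rfl⟩ := hx
    exact hr (hQ ▸ hxQ : r ∈ p)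
  let Q' : Ideal E := Q.map (algebraMap S E)
  haveI : Q'.IsPrime := IsLocalization.isPrime_of_isPrime_disjoint M E Q inferInstance hdisj
  have hQ' : Q'.comap (algebraMap S E) = Q := IsLocalization.comap_map_of_isPrime_disjoint M E ‹_› hdisj
  have hA : Q'.comap (algebraMap A E) = IsLocalRing.maximalIdeal A := by
    rw [← IsLocalization.map_comap p.primeCompl A (Q'.comap (algebraMap A E)),
      ← IsLocalization.map_comap p.primeCompl A (IsLocalRing.maximalIdeal A),
      IsLocalization.AtPrime.under_maximalIdeal A p, Ideal.under_def, Ideal.comap_comap,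
      show (algebraMap A E).comp (algebraMap R A) = (algebraMap S E).comp (algebraMap R S) from
        RingHom.ext fun r => ((IsScalarTower.algebraMap_apply R A E r).symm.trans (IsScalarTower.algebraMap_apply R S E r)),
      ← Ideal.comap_comap, hQ', hQ]
  obtain ⟨h1, h2⟩ := etale_geomUnibranch h Q' hA
  haveI hloc : IsLocalization.AtPrime (Localization.AtPrime Q') (Q'.comap (algebraMap S E)) :=
    IsLocalization.isLocalization_isLocalization_atPrime_isLocalization M _ Q'
  haveI : IsLocalization Q.primeCompl (Localization.AtPrime Q') := by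
    have e : (Q'.comap (algebraMap S E)).primeCompl = Q.primeCompl := by ext x; simp [hQ']
    exact e ▸ hloc
  let e := (IsLocalization.algEquiv Q.primeCompl (Localization.AtPrime Q) (Localization.AtPrime Q')).toRingEquiv
  haveI := h1
  exact ⟨e.toMulEquiv.isDomain _, GeomUnib.isGeomUnibranch_of_ringEquiv e h2⟩

theorem isGeomUnibranch_of_surjective' {R A : Type u} [CommRing R] [IsLocalRing R] [CommRing A] [IsLocalRing A]
    [IsDomain A] (φ : R →+* A) (hsurj : Function.Surjective φ) (hker : RingHom.ker φ ≤ nilradical R)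
    (h : CAlg2.IsGeomUnibranch R) : CAlg2.IsGeomUnibranch A :=
  GeomUnib.isGeomUnibranch_of_radicialAt (K := FractionRing A) (integralClosure A (FractionRing A))
    (GeomUnib.radicialAt_of_isGeomUnibranch (K := FractionRing A) h φ hsurj hker _)

theorem isGeomUnibranch_red_localization {R : Type u} [CommRing R] (p : Ideal R) [p.IsPrime]
    (hn : (nilradical R).IsPrime) (h : CAlg2.IsGeomUnibranch (Localization.AtPrime p))
    (p₁ : Ideal (R ⧸ nilradical R)) [p₁.IsPrime] (hp₁ : p₁.comap (Ideal.Quotient.mk (nilradical R)) = p) :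
    IsDomain (Localization.AtPrime p₁) ∧ CAlg2.IsGeomUnibranch (Localization.AtPrime p₁) := by
  haveI : IsDomain (R ⧸ nilradical R) := (Ideal.Quotient.isDomain_iff_prime _).2 hn
  let A := Localization.AtPrime p₁
  haveI : IsDomain A := IsLocalization.isDomain_localization (Ideal.primeCompl_le_nonZeroDivisors p₁)
  let φ : Localization.AtPrime p →+* A := Localization.localRingHom p p₁ (Ideal.Quotient.mk (nilradical R)) hp₁.symm
  have hsurj : Function.Surjective φ := fun z => by
    obtain ⟨a, ⟨s, hs⟩, rfl⟩ := IsLocalization.exists_mk'_eq p₁.primeCompl z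
    obtain ⟨a, rfl⟩ := Ideal.Quotient.mk_surjective a
    obtain ⟨s, rfl⟩ := Ideal.Quotient.mk_surjective s
    exact ⟨IsLocalization.mk' _ a (⟨s, fun hh => hs (show s ∈ p₁.comap _ from hp₁.symm ▸ hh)⟩ : p.primeCompl),
      Localization.localRingHom_mk' p p₁ _ hp₁.symm _ _⟩
  have hker : RingHom.ker φ ≤ nilradical _ := fun z hz => by
    obtain ⟨a, s, rfl⟩ := IsLocalization.exists_mk'_eq p.primeCompl z
    rw [RingHom.mem_ker, Localization.localRingHom_mk', IsLocalization.mk'_eq_zero_iff] at hz
    obtain ⟨⟨t, ht⟩, h0⟩ := hz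
    have ha : a ∈ nilradical R := by
      rw [← Ideal.Quotient.eq_zero_iff_mem]
      exact (mul_eq_zero.1 h0).resolve_left fun h => ht ((show t = 0 from h).symm ▸ zero_mem _)
    rw [IsLocalization.mk'_eq_mul_mk'_one, mem_nilradical]
    exact (Commute.all _ _).isNilpotent_mul_right ((mem_nilradical.1 ha).map _)
  refine ⟨inferInstance, ?_⟩
  exact isGeomUnibranch_of_surjective' φ hsurj hker h

/-- Over an irreducible base, geometrically unibranch points have a unique generization. -/
theorem minimalPrime_unique_of_etale {R S : Type u} [CommRing R] [CommRing S] [Algebra R S] [Algebra.Etale R S]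
    (hn : (nilradical R).IsPrime) (Q : Ideal S) [Q.IsPrime]
    (h : CAlg2.IsGeomUnibranch (Localization.AtPrime (Q.comap (algebraMap R S))))
    (M₁ M₂ : Ideal S) (h₁ : M₁ ∈ minimalPrimes S) (h₂ : M₂ ∈ minimalPrimes S) (h₁Q : M₁ ≤ Q) (h₂Q : M₂ ≤ Q) :
    M₁ = M₂ := by
  let R₁ := R ⧸ nilradical R
  let E := R₁ ⊗[R] S
  let π : S →+* E := (Algebra.TensorProduct.includeRight : S →ₐ[R] E).toRingHom
  have hπ : Function.Surjective π :=
    Algebra.TensorProduct.includeRight_surjective _ (Ideal.Quotient.mk_surjective)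
  have hkerle : ∀ N : Ideal S, N.IsPrime → RingHom.ker π ≤ N := fun N hN z hz => by
    have hz' : z ∈ (nilradical R).map (algebraMap R S) := by
      have : ((1 : R₁) ⊗ₜ[R] z) = 0 := hz
      have h3 : (Algebra.TensorProduct.quotIdealMapEquivTensorQuot S (nilradical R)) (Ideal.Quotient.mk _ z) = 0 := by
        rw [Algebra.TensorProduct.quotIdealMapEquivTensorQuot_mk]
        exact (TensorProduct.comm R R₁ S).map_eq_zero_iff.2 this
      exact Ideal.Quotient.eq_zero_iff_mem.1 ((map_eq_zero_iff _ (AlgEquiv.injective _)).1 h3)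
    have : nilradical R ≤ N.comap (algebraMap R S) := nilradical_le_prime _
    exact Ideal.map_le_iff_le_comap.2 this hz'
  haveI : IsDomain R₁ := (Ideal.Quotient.isDomain_iff_prime _).2 hn
  let Q₁ : Ideal E := Q.map π
  haveI hQ₁p : Q₁.IsPrime := Ideal.map_isPrime_of_surjective hπ (hkerle Q inferInstance)
  have hQ₁ : Q₁.comap π = Q := by
    rw [Ideal.comap_map_of_surjective π hπ, ← RingHom.ker_eq_comap_bot, sup_eq_left]; exact hkerle Q inferInstance
  let p₁ : Ideal R₁ := Q₁.comap (algebraMap R₁ E)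
  have hp₁ : p₁.comap (Ideal.Quotient.mk (nilradical R)) = Q.comap (algebraMap R S) := by
    rw [← hQ₁, Ideal.comap_comap, Ideal.comap_comap]
    congr 1
    exact RingHom.ext fun r => (Algebra.TensorProduct.includeRight.commutes r).symm
  obtain ⟨hd₁, hg₁⟩ := isGeomUnibranch_red_localization _ hn h p₁ hp₁
  obtain ⟨hd, -⟩ := etale_atPrime (R := R₁) (S := E) p₁ Q₁ rfl hd₁ hg₁
  haveI := hd
  have hmem : ∀ M : Ideal S, M ∈ minimalPrimes S → M ≤ Q → M = (RingHom.ker (algebraMap E (Localization.AtPrime Q₁))).comap π := by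
    intro M hM hMQ
    haveI := hM.1.1
    let M' := M.map π
    haveI : M'.IsPrime := Ideal.map_isPrime_of_surjective hπ (hkerle M inferInstance)
    have hM' : M'.comap π = M := by
      rw [Ideal.comap_map_of_surjective π hπ, ← RingHom.ker_eq_comap_bot, sup_eq_left]; exact hkerle M inferInstance
    have hle : M' ≤ Q₁ := Ideal.map_mono hMQ
    refine le_antisymm (hM.2 ⟨Ideal.IsPrime.comap π (hK := RingHom.ker_isPrime _), bot_le⟩ ?_) ?_
    · intro z hz
      rw [← hM']
      show π z ∈ M'
      obtain ⟨⟨t, ht⟩, h0⟩ := (IsLocalization.map_eq_zero_iff Q₁.primeCompl (Localization.AtPrime Q₁) (π z)).1 hz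
      exact ((Ideal.IsPrime.mem_or_mem (I := M') inferInstance (h0 ▸ M'.zero_mem : t * π z ∈ M'))).resolve_left
        fun h => ht (hle h)
    · intro z hz
      rw [← hM']
      show π z ∈ M'
      obtain ⟨⟨t, ht⟩, h0⟩ := (IsLocalization.map_eq_zero_iff Q₁.primeCompl (Localization.AtPrime Q₁) (π z)).1 hz
      exact ((Ideal.IsPrime.mem_or_mem (I := M') inferInstance (h0 ▸ M'.zero_mem : t * π z ∈ M'))).resolve_left
        fun h => ht (hle h)
  rw [hmem M₁ h₁ h₁Q, hmem M₂ h₂ h₂Q]

/-- Unramified + dominating at a geometrically unibranch point is etale nearby. -/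
theorem exists_etale_away_of_unramified {R S : Type u} [CommRing R] [IsDomain R] [CommRing S] [Algebra R S]
    [Algebra.FiniteType R S] (Q : Ideal S) [Q.IsPrime] [Algebra.IsUnramifiedAt R Q]
    (h : CAlg2.IsGeomUnibranch (Localization.AtPrime (Q.comap (algebraMap R S))))
    (M : Ideal S) [M.IsPrime] (hMQ : M ≤ Q) (hM : M.comap (algebraMap R S) = ⊥) :
    ∃ g ∉ Q, Algebra.Etale R (Localization.Away g) := by
  obtain ⟨f, hf, P, φ, hφ⟩ := Algebra.IsUnramifiedAt.exists_hasStandardEtaleSurjectionOn (R := R) Q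
  let Sf := Localization.Away f
  let E := P.Ring
  have hdisj : ∀ N : Ideal S, N.IsPrime → N ≤ Q → Disjoint (Submonoid.powers f : Set S) N := fun N hN hNQ =>
    Set.disjoint_left.mpr fun x hx hxN => by
      obtain ⟨n, rfl⟩ := hx
      exact hf (Ideal.IsPrime.mem_of_pow_mem inferInstance n (hNQ hxN))
  let Qf : Ideal Sf := Q.map (algebraMap S Sf)
  haveI : Qf.IsPrime := IsLocalization.isPrime_of_isPrime_disjoint _ Sf Q inferInstance (hdisj Q inferInstance le_rfl)
  have hQf : Qf.comap (algebraMap S Sf) = Q :=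
    IsLocalization.comap_map_of_isPrime_disjoint (Submonoid.powers f) Sf ‹_› (hdisj Q inferInstance le_rfl)
  let Mf : Ideal Sf := M.map (algebraMap S Sf)
  haveI : Mf.IsPrime := IsLocalization.isPrime_of_isPrime_disjoint _ Sf M inferInstance (hdisj M inferInstance hMQ)
  have hMf : Mf.comap (algebraMap S Sf) = M :=
    IsLocalization.comap_map_of_isPrime_disjoint (Submonoid.powers f) Sf ‹_› (hdisj M inferInstance hMQ)
  let q : Ideal E := Qf.comap φ.toRingHom
  let M' : Ideal E := Mf.comap φ.toRingHom
  haveI : q.IsPrime := Ideal.IsPrime.comap _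
  haveI : M'.IsPrime := Ideal.IsPrime.comap _
  have hφc : φ.toRingHom.comp (algebraMap R E) = (algebraMap S Sf).comp (algebraMap R S) :=
    RingHom.ext fun r => (φ.commutes r).trans (IsScalarTower.algebraMap_apply R S Sf r)
  have hq : q.comap (algebraMap R E) = Q.comap (algebraMap R S) := by
    rw [Ideal.comap_comap, hφc, ← Ideal.comap_comap, hQf]
  have hM' : M'.comap (algebraMap R E) = ⊥ := by
    rw [Ideal.comap_comap, hφc, ← Ideal.comap_comap, hMf, hM]
  haveI : _root_.IsReduced E := HenselLib.isReduced_of_etale R E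
  have hbot : ∀ N ∈ minimalPrimes E, N.comap (algebraMap R E) = ⊥ := fun N hN => by
    rw [eq_bot_iff]
    intro r hr
    by_contra hr0
    haveI := hN.1.1
    refine notMem_nonZeroDivisors_of_mem_mem_minimalPrimes (x := algebraMap R E r) hr hN ?_
    refine mem_nonZeroDivisors_iff_right.2 fun z hz => ?_
    have := Module.Flat.isSMulRegular_of_isRegular (R := R) (M := E) (isRegular_iff_mem_nonZeroDivisors.2
        (mem_nonZeroDivisors_of_ne_zero hr0))
    refine this ?_
    show r • z = r • (0 : E)
    rw [smul_zero, Algebra.smul_def, mul_comm]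
    exact hz
  have hfin : (minimalPrimes E).Finite := by
    haveI : (⊥ : Ideal R).IsPrime := Ideal.isPrime_bot
    exact (Algebra.QuasiFinite.finite_primesOver (R := R) (S := E) (⊥ : Ideal R)).subset
      fun N hN => ⟨hN.1.1, ⟨(hbot N hN).symm⟩⟩
  obtain ⟨hdom, -⟩ := etale_atPrime (R := R) (S := E) (Q.comap (algebraMap R S)) q hq
    (IsLocalization.isDomain_localization (Ideal.primeCompl_le_nonZeroDivisors _)) h
  haveI := hdom
  let N₀ : Ideal E := RingHom.ker (algebraMap E (Localization.AtPrime q))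
  have hN₀ : ∀ N : Ideal E, N.IsPrime → N ≤ q → N₀ ≤ N := fun N hN hNq z hz => by
    obtain ⟨⟨t, ht⟩, h0⟩ := (IsLocalization.map_eq_zero_iff q.primeCompl (Localization.AtPrime q) z).1 hz
    exact ((hN.mem_or_mem (h0 ▸ N.zero_mem : t * z ∈ N))).resolve_left fun h => ht (hNq h)
  haveI : N₀.IsPrime := RingHom.ker_isPrime _
  have hM'0 : M' = N₀ := by
    have hle : N₀ ≤ M' := hN₀ M' inferInstance (Ideal.comap_mono (Ideal.map_mono hMQ))
    refine (Algebra.QuasiFinite.eq_of_le_of_under_eq (R := R) N₀ M' hle ?_).symm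
    show N₀.comap (algebraMap R E) = M'.comap (algebraMap R E)
    rw [hM', eq_bot_iff, ← hM']
    exact Ideal.comap_mono hle
  classical
  have hsel : ∀ N ∈ minimalPrimes E, N ≠ N₀ → ∃ h ∈ N, h ∉ q := fun N hN hne => by
    by_contra hc
    push Not at hc
    exact hne (le_antisymm (hN.2 ⟨inferInstance, bot_le⟩ (hN₀ N hN.1.1 hc)) (hN₀ N hN.1.1 hc))
  choose! hh hhN hhq using hsel
  let H : E := ∏ N ∈ hfin.toFinset.filter (· ≠ N₀), hh N
  have hHq : H ∉ q := by
    rw [Ideal.IsPrime.prod_mem_iff]
    rintro ⟨N, hN, hmem⟩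
    rw [Finset.mem_filter, Set.Finite.mem_toFinset] at hN
    exact hhq N hN.1 hN.2 hmem
  have hkill : ∀ x : E, φ x = 0 → H * x = 0 := fun x hx => by
    refine IsReduced.eq_zero _ (mem_nilradical.1 ?_)
    rw [nilradical_eq_sInf, Ideal.mem_sInf]
    intro N' hN'
    haveI : N'.IsPrime := hN'
    obtain ⟨N, hN, hNN'⟩ := Ideal.exists_minimalPrimes_le (bot_le : (⊥ : Ideal E) ≤ N')
    refine hNN' ?_
    by_cases hne : N = N₀
    · subst hne
      refine N₀.mul_mem_left _ ?_
      rw [← hM'0]
      show φ x ∈ Mf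
      rw [hx]; exact Mf.zero_mem
    · exact N.mul_mem_right _ (N.mem_of_dvd
        (Finset.dvd_prod_of_mem hh (Finset.mem_filter.2 ⟨hfin.mem_toFinset.2 hN, hne⟩)) (hhN N hN hne))
  let g' : Sf := φ H
  have hg'Q : g' ∉ Qf := hHq
  let g₀ : S := (IsLocalization.Away.sec f g').1
  have hassoc : Associated (algebraMap S Sf g₀) g' := IsLocalization.Away.associated_sec_fst f g'
  let T := Localization.Away g'
  haveI : IsLocalization.Away (f * g₀) T := IsLocalization.Away.mul_of_associated (S := Sf) (T := T) f g₀ g' hassoc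
  refine ⟨f * g₀, fun hmem => ?_, ?_⟩
  · rcases (inferInstance : Q.IsPrime).mem_or_mem hmem with h | h
    · exact hf h
    · obtain ⟨u, hu⟩ := hassoc
      exact hg'Q (hu ▸ Qf.mul_mem_right _ (Ideal.mem_map_of_mem _ h))
  let ψ : Localization.Away H →+* T := IsLocalization.Away.map (Localization.Away H) T φ.toRingHom H
  have hψinj : Function.Injective ψ := (injective_iff_map_eq_zero _).2 fun z hz => by
    obtain ⟨x, ⟨_, n, rfl⟩, rfl⟩ := IsLocalization.exists_mk'_eq (Submonoid.powers H) z
    rw [show ψ = IsLocalization.map T φ.toRingHom _ from rfl, IsLocalization.map_mk', IsLocalization.mk'_eq_zero_iff] at hz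
    obtain ⟨⟨_, m, rfl⟩, hm⟩ := hz
    have : φ (H ^ m * x) = 0 := by rw [map_mul, map_pow]; exact hm
    have h0 := hkill _ this
    rw [IsLocalization.mk'_eq_zero_iff]
    refine ⟨⟨H ^ (m + 1), pow_mem (Submonoid.mem_powers H) _⟩, ?_⟩
    show H ^ (m + 1) * x = 0
    rw [pow_succ', mul_assoc]; exact h0
  have hψsurj : Function.Surjective ψ := fun z => by
    obtain ⟨x, ⟨_, n, rfl⟩, rfl⟩ := IsLocalization.exists_mk'_eq (Submonoid.powers g') z
    obtain ⟨x, rfl⟩ := hφ x
    refine ⟨IsLocalization.mk' _ x (⟨H ^ n, pow_mem (Submonoid.mem_powers H) n⟩ : Submonoid.powers H), ?_⟩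
    rw [show ψ = IsLocalization.map T φ.toRingHom _ from rfl, IsLocalization.map_mk']
    congr 1
    exact Subtype.ext (map_pow φ H n)
  let ψA : Localization.Away H →ₐ[R] T :=
    { ψ with
      commutes' := fun r => by
        show ψ (algebraMap R (Localization.Away H) r) = algebraMap R T r
        rw [IsScalarTower.algebraMap_apply R E (Localization.Away H)]
        refine (IsLocalization.map_eq _ _).trans ?_
        rw [IsScalarTower.algebraMap_apply R Sf T]
        exact congrArg _ (φ.commutes r) }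
  haveI : Algebra.Etale R (Localization.Away H) := by
    haveI : Algebra.Etale E (Localization.Away H) := Algebra.Etale.of_isLocalizationAway H
    exact Algebra.Etale.comp R E (Localization.Away H)
  haveI : Algebra.Etale R T := Algebra.Etale.of_equiv (AlgEquiv.ofBijective ψA ⟨hψinj, hψsurj⟩)
  exact Algebra.Etale.of_equiv
    ((IsLocalization.algEquiv (Submonoid.powers (f * g₀)) T (Localization.Away (f * g₀))).restrictScalars R)

end Groth.Agent.UnibFib
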