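import Groth.Agent.UnibFib.GenericConn
import Groth.Agent.GeomUnib.Irred
import Groth.Agent.GeomUnib.EquidimLocal
import Mathlib.AlgebraicGeometry.Morphisms.Flat
import Mathlib.RingTheory.LocalProperties.Reduced
import Mathlib.RingTheory.Localization.BaseChange

/-!
# Connectedness of generic parts of flat schemes over unibranch bases
-/

set_option autoImplicit false
universe u
open CategoryTheory CategoryTheory.Limits AlgebraicGeometry TensorProduct

namespace Groth.Agent.UnibFib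

theorem isReduced_localized {R A S B κ : Type u} [CommRing R] [CommRing A] [CommRing S] [CommRing B] [Field κ]
    [Algebra R A] [Algebra R S] [Algebra R B] [Algebra A B] [Algebra S B] [IsScalarTower R A B]
    [IsScalarTower R S B] [Algebra R κ] [Algebra A κ] [IsScalarTower R A κ]
    (M : Submonoid R) [IsLocalization M A] (N : Submonoid S) [IsLocalization N B]
    (h : _root_.IsReduced (S ⊗[R] κ)) : _root_.IsReduced (B ⊗[A] κ) := by
  let C := S ⊗[R] κ
  haveI := h
  haveI : IsLocalization (Algebra.algebraMapSubmonoid C N) (C ⊗[S] B) := inferInstance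
  haveI : _root_.IsReduced (C ⊗[S] B) :=
    isReduced_localizationPreserves (Algebra.algebraMapSubmonoid C N) (C ⊗[S] B) inferInstance
  haveI : TensorProduct.CompatibleSMul R A B κ := IsLocalization.tensorProduct_compatibleSMul M A B κ
  let e : B ⊗[A] κ ≃+* C ⊗[S] B :=
    ((Algebra.TensorProduct.equivOfCompatibleSMul R A A B κ).toRingEquiv.trans
      (Algebra.TensorProduct.cancelBaseChange R S S B κ).symm.toRingEquiv).trans
      (Algebra.TensorProduct.comm S B C).toRingEquiv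
  exact isReduced_of_injective e e.injective

theorem isReduced_tensor_stalk {X Y : Scheme.{u}} (f : X ⟶ Y) [GeometricallyReduced f] (x : X)
    (κ : Type u) [Field κ] :
    letI := (f.stalkMap x).hom.toAlgebra
    ∀ [Algebra (Y.presheaf.stalk (f.base x)) κ],
      _root_.IsReduced (X.presheaf.stalk x ⊗[Y.presheaf.stalk (f.base x)] κ) := by
  letI := (f.stalkMap x).hom.toAlgebra
  intro _
  obtain ⟨_, ⟨V, hV, rfl⟩, hxV, -⟩ :=
    Y.isBasis_affineOpens.exists_subset_of_mem_open (Set.mem_univ (f.base x)) isOpen_univ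
  obtain ⟨_, ⟨W, hW, rfl⟩, hxW, hWV⟩ :=
    X.isBasis_affineOpens.exists_subset_of_mem_open (show x ∈ (f ⁻¹ᵁ V : Set X) from hxV) (f ⁻¹ᵁ V).isOpen
  let R := Γ(Y, V)
  let S := Γ(X, W)
  let A := Y.presheaf.stalk (f.base x)
  let B := X.presheaf.stalk x
  letI : Algebra R A := (Y.presheaf.germ V (f.base x) hxV).hom.toAlgebra
  letI : Algebra S B := (X.presheaf.germ W x hxW).hom.toAlgebra
  letI : Algebra R S := (f.appLE V W hWV).hom.toAlgebra
  letI : Algebra R B := ((algebraMap S B).comp (algebraMap R S)).toAlgebra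
  haveI : IsScalarTower R S B := IsScalarTower.of_algebraMap_eq' rfl
  haveI : IsScalarTower R A B := IsScalarTower.of_algebraMap_eq fun r => by
    show (X.presheaf.germ W x hxW).hom ((f.appLE V W hWV).hom r) =
      (f.stalkMap x).hom ((Y.presheaf.germ V (f.base x) hxV).hom r)
    rw [← CommRingCat.comp_apply (Y.presheaf.germ V (f.base x) hxV), ← CommRingCat.comp_apply,
      Scheme.Hom.germ_stalkMap]
    congr 2
    rw [Scheme.Hom.appLE, Category.assoc]
    exact congrArg _ (TopCat.Presheaf.germ_res _ _ _ _)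
  haveI : IsLocalization.AtPrime A (hV.primeIdealOf ⟨f.base x, hxV⟩).asIdeal := hV.isLocalization_stalk ⟨f.base x, hxV⟩
  haveI : IsLocalization.AtPrime B (hW.primeIdealOf ⟨x, hxW⟩).asIdeal := hW.isLocalization_stalk ⟨x, hxW⟩
  letI : Algebra R κ := ((algebraMap A κ).comp (algebraMap R A)).toAlgebra
  haveI : IsScalarTower R A κ := IsScalarTower.of_algebraMap_eq' rfl
  refine isReduced_localized (hV.primeIdealOf ⟨f.base x, hxV⟩).asIdeal.primeCompl
    (hW.primeIdealOf ⟨x, hxW⟩).asIdeal.primeCompl ?_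
  let a : Spec (CommRingCat.of S) ⟶ Spec (CommRingCat.of R) := Spec.map (CommRingCat.ofHom (algebraMap R S))
  let b : Spec (CommRingCat.of κ) ⟶ Spec (CommRingCat.of R) := Spec.map (CommRingCat.ofHom (algebraMap R κ))
  haveI : AlgebraicGeometry.IsReduced (pullback f (b ≫ hV.fromSpec)) :=
    GeometricallyReduced.geometrically_isReduced _ _ _ (IsPullback.of_hasPullback _ _)
  have hsq : a ≫ hV.fromSpec = hW.fromSpec ≫ f := IsAffineOpen.SpecMap_appLE_fromSpec f hV hW hWV
  let m : pullback a b ⟶ pullback f (b ≫ hV.fromSpec) :=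
    pullback.map a b f (b ≫ hV.fromSpec) hW.fromSpec (𝟙 _) hV.fromSpec hsq (Category.id_comp _).symm
  haveI : IsOpenImmersion m := inferInstance
  haveI : AlgebraicGeometry.IsReduced (pullback a b) := isReduced_of_isOpenImmersion m
  haveI : AlgebraicGeometry.IsReduced (Spec (CommRingCat.of (S ⊗[R] κ))) :=
    isReduced_of_isOpenImmersion (pullbackSpecIso R S κ).inv
  exact (affine_isReduced_iff (CommRingCat.of (S ⊗[R] κ))).1 this

theorem exists_gen_mem_of_mem_closure {X : Scheme.{u}} [IsLocallyNoetherian X] {U : Set X} (hU : IsOpen U)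
    {x : X} (hx : x ∈ closure U) : ∃ z ∈ U, z ⤳ x ∧ ∀ z' : X, z' ⤳ z → z ⤳ z' := by
  obtain ⟨_, ⟨W, hW, rfl⟩, hxW, -⟩ := X.isBasis_affineOpens.exists_subset_of_mem_open (Set.mem_univ x) isOpen_univ
  haveI : IsNoetherianRing Γ(X, W) := IsLocallyNoetherian.component_noetherian ⟨W, hW⟩
  let D : Set (PrimeSpectrum Γ(X, W)) := {p | p.asIdeal ∈ minimalPrimes Γ(X, W) ∧ hW.fromSpec p ∈ U}
  have hfin : D.Finite :=
    ((minimalPrimes.finite_of_isNoetherianRing Γ(X, W)).preimage
      (fun p _ q _ h => PrimeSpectrum.ext h)).subset fun p hp => hp.1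
  have hsub : U ∩ W ⊆ ⋃ p ∈ D, closure {hW.fromSpec p} := by
    rintro z ⟨hzU, hzW⟩
    let q := hW.primeIdealOf ⟨z, hzW⟩
    obtain ⟨p, hp, hpq⟩ := Ideal.exists_minimalPrimes_le (J := q.asIdeal) (I := (⊥ : Ideal Γ(X, W))) bot_le
    let P : PrimeSpectrum Γ(X, W) := ⟨p, hp.1.1⟩
    have hs : hW.fromSpec P ⤳ z := by
      have := ((PrimeSpectrum.le_iff_specializes P q).1 hpq).map hW.fromSpec.continuous
      rwa [hW.fromSpec_primeIdealOf] at this
    exact Set.mem_iUnion₂.2 ⟨P, ⟨hp, hs.mem_open hU hzU⟩, hs.mem_closure⟩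
  have hx' : x ∈ closure (U ∩ W) := by
    rw [mem_closure_iff] at hx ⊢
    intro o ho hxo
    obtain ⟨z, ⟨hz1, hz2⟩, hz3⟩ := hx (o ∩ W) (ho.inter W.2) ⟨hxo, hxW⟩
    exact ⟨z, hz1, hz3, hz2⟩
  obtain ⟨P, ⟨hP, hPU⟩, hPx⟩ := Set.mem_iUnion₂.1
    (closure_minimal hsub (hfin.isClosed_biUnion fun _ _ => isClosed_closure) hx')
  refine ⟨hW.fromSpec P, hPU, specializes_iff_mem_closure.2 hPx, fun z' hz' => ?_⟩
  have hPW : hW.fromSpec P ∈ (W : Set X) := hW.range_fromSpec ▸ ⟨P, rfl⟩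
  obtain ⟨(q : PrimeSpectrum Γ(X, W)), rfl⟩ := (hW.range_fromSpec.ge (hz'.mem_open W.2 hPW) : z' ∈ Set.range hW.fromSpec)
  have hle : q.asIdeal ≤ P.asIdeal := (PrimeSpectrum.le_iff_specializes q P).2
    (hW.fromSpec.isOpenEmbedding.toIsInducing.specializes_iff.1 hz')
  rw [show q = P from PrimeSpectrum.ext (le_antisymm hle (hP.2 ⟨q.2, bot_le⟩ hle))]

theorem isConnected_compl_scheme {X Y : Scheme.{u}} [IsLocallyNoetherian X] [IsLocallyNoetherian Y]
    [ConnectedSpace ↥X] (hY : ∀ y : Y, CAlg2.IsGeomUnibranch (Y.presheaf.stalk y))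
    (f : X ⟶ Y) [Flat f] [GeometricallyReduced f] (T : Set ↥X) (hT : IsClosed T)
    (hT' : interior (closure (f.base '' T)) = ∅) : _root_.IsConnected Tᶜ := by
  let G : Set X := {x | ∀ y', y' ⤳ f.base x → f.base x ⤳ y'}
  have hGT : G ⊆ Tᶜ := by
    intro x hx hxT
    obtain ⟨U₀, hy, hU₀⟩ := GeomUnib.exists_opens_subset_closure (f.base x) (f.base x) (specializes_refl _) hx
      (hY _).1.1
    have hsub : (U₀ : Set Y) ⊆ interior (closure (f.base '' T)) :=
      interior_maximal (hU₀.trans (closure_mono (Set.singleton_subset_iff.2 ⟨x, hxT, rfl⟩))) U₀.2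
    rw [hT'] at hsub
    exact hsub hy
  have hgen : ∀ z : X, (∀ z', z' ⤳ z → z ⤳ z') → z ∈ G := fun z hz y' hy' => by
    obtain ⟨z', hz', rfl⟩ := Flat.generalizingMap f hy'
    exact (hz z' hz').map f.continuous
  have hdense : ∀ x : X, ∃ z ∈ G, z ⤳ x := fun x => by
    obtain ⟨z, -, hzx, hz⟩ := exists_gen_mem_of_mem_closure isOpen_univ (subset_closure (Set.mem_univ x))
    exact ⟨z, hgen z hz, hzx⟩
  have hclU : ∀ x : X, x ∈ closure Tᶜ := fun x => by
    obtain ⟨z, hz, hzx⟩ := hdense x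
    exact closure_mono (Set.singleton_subset_iff.2 (hGT hz)) hzx.mem_closure
  refine ⟨?_, fun u v hu hv huv hnu hnv => ?_⟩
  · obtain ⟨x⟩ := (inferInstance : Nonempty X)
    obtain ⟨z, hz, -⟩ := hdense x
    exact ⟨z, hGT hz⟩
  by_contra hemp
  rw [Set.not_nonempty_iff_eq_empty] at hemp
  let U₁ := Tᶜ ∩ u
  let U₂ := Tᶜ ∩ v
  have hU₁ : IsOpen U₁ := hT.isOpen_compl.inter hu
  have hU₂ : IsOpen U₂ := hT.isOpen_compl.inter hv
  have hcover : closure U₁ ∪ closure U₂ = Set.univ := by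
    rw [← closure_union, Set.eq_univ_iff_forall]
    intro x
    refine closure_mono (fun z hz => ?_) (hclU x)
    rcases huv hz with h | h
    · exact Or.inl ⟨hz, h⟩
    · exact Or.inr ⟨hz, h⟩
  obtain ⟨x, -, hx₁, hx₂⟩ := isPreconnected_closed_iff.1 isPreconnected_univ (closure U₁) (closure U₂)
    isClosed_closure isClosed_closure hcover.ge
    (by obtain ⟨a, ha⟩ := hnu; exact ⟨a, trivial, subset_closure ha⟩)
    (by obtain ⟨a, ha⟩ := hnv; exact ⟨a, trivial, subset_closure ha⟩)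
  obtain ⟨z₁, hz₁, hz₁x, hm₁⟩ := exists_gen_mem_of_mem_closure hU₁ hx₁
  obtain ⟨z₂, hz₂, hz₂x, hm₂⟩ := exists_gen_mem_of_mem_closure hU₂ hx₂
  let A := Y.presheaf.stalk (f.base x)
  let B := X.presheaf.stalk x
  letI : Algebra A B := (f.stalkMap x).hom.toAlgebra
  haveI : IsLocalHom (algebraMap A B) := inferInstanceAs (IsLocalHom (f.stalkMap x).hom)
  haveI : Module.Flat A B := Flat.stalkMap f x
  haveI : IsNoetherianRing A := inferInstance
  have hA := hY (f.base x)
  haveI hp : (nilradical A).IsPrime := (Ideal.Quotient.isDomain_iff_prime _).1 hA.1.1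
  let G₀ : Set (PrimeSpectrum B) := {q | q.asIdeal.comap (algebraMap A B) = nilradical A}
  have hconn : _root_.IsPreconnected ((X.fromSpecStalk x).base '' G₀) :=
    (connected_generic_fibre A B (fun κ _ _ => isReduced_tensor_stalk f x κ) hA).image _
      (X.fromSpecStalk x).continuous.continuousOn
  have hn : (Y.fromSpecStalk (f.base x)).base (⟨nilradical A, hp⟩ : PrimeSpectrum A) ∈ {y | ∀ y', y' ⤳ y → y ⤳ y'} := by
    refine fun y' hy' => GeomUnib.maximal_fromSpecStalk (f.base x) (P := ⟨nilradical A, hp⟩) ?_ y' hy'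
    exact ⟨⟨hp, bot_le⟩, fun b hb _ => haveI := hb.1; nilradical_le_prime b⟩
  have hsq : ∀ q : PrimeSpectrum B, f.base ((X.fromSpecStalk x).base q) =
      (Y.fromSpecStalk (f.base x)).base (PrimeSpectrum.comap (algebraMap A B) q) := fun q =>
    (congrArg (fun g : Spec (X.presheaf.stalk x) ⟶ Y => g.base q) (Scheme.SpecMap_stalkMap_fromSpecStalk (f := f) (x := x))).symm
  have himg : (X.fromSpecStalk x).base '' G₀ ⊆ Tᶜ := by
    rintro _ ⟨q, hq, rfl⟩
    refine hGT ?_
    show ∀ y', y' ⤳ f.base _ → f.base _ ⤳ y'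
    rw [hsq, show PrimeSpectrum.comap (algebraMap A B) q = (⟨nilradical A, hp⟩ : PrimeSpectrum A) from PrimeSpectrum.ext hq]
    exact hn
  have hmem : ∀ z : X, z ⤳ x → (∀ z', z' ⤳ z → z ⤳ z') → z ∈ (X.fromSpecStalk x).base '' G₀ := by
    intro z hzx hz
    obtain ⟨q, rfl⟩ := (Scheme.range_fromSpecStalk.ge hzx : z ∈ Set.range (X.fromSpecStalk x))
    refine ⟨q, ?_, rfl⟩
    let p := PrimeSpectrum.comap (algebraMap A B) q
    let p₀ : PrimeSpectrum A := ⟨nilradical A, hp⟩
    have hspec : (Y.fromSpecStalk (f.base x)).base p₀ ⤳ f.base ((X.fromSpecStalk x).base q) := by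
      rw [hsq]
      exact ((PrimeSpectrum.le_iff_specializes p₀ p).1 (nilradical_le_prime p.asIdeal)).map
        (Y.fromSpecStalk (f.base x)).continuous
    have heq : (Y.fromSpecStalk (f.base x)).base p = (Y.fromSpecStalk (f.base x)).base p₀ := by
      have h2 := hgen _ hz _ hspec
      rw [← hsq]
      exact (h2.antisymm hspec).eq
    exact congrArg PrimeSpectrum.asIdeal ((Y.fromSpecStalk (f.base x)).isEmbedding.injective heq)
  obtain ⟨w, hw, hwu, hwv⟩ := hconn u v hu hv (himg.trans huv) ⟨z₁, hmem z₁ hz₁x hm₁, hz₁.2⟩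
    ⟨z₂, hmem z₂ hz₂x hm₂, hz₂.2⟩
  exact Set.eq_empty_iff_forall_notMem.1 hemp w ⟨himg hw, hwu, hwv⟩

end Groth.Agent.UnibFib
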