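import Groth.Agent.NormalBase.IntClosure
import Groth.Agent.GeomUnib.Radical
import Mathlib.AlgebraicGeometry.Geometrically.Reduced
import Mathlib.RingTheory.Ideal.GoingDown
import Mathlib.RingTheory.Flat.Basic

/-!
# Generic fibre over a geometrically unibranch base
-/

set_option autoImplicit false
universe u
open CategoryTheory CategoryTheory.Limits AlgebraicGeometry TensorProduct

namespace Groth.Agent.UnibFib

theorem isReduced_tensor_of_geometricallyReduced (A B : Type u) [CommRing A] [CommRing B] [Algebra A B]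
    [GeometricallyReduced (Spec.map (CommRingCat.ofHom (algebraMap A B)))]
    (κ : Type u) [Field κ] [Algebra A κ] : _root_.IsReduced (B ⊗[A] κ) := by
  have h : AlgebraicGeometry.IsReduced (pullback (Spec.map (CommRingCat.ofHom (algebraMap A B)))
      (Spec.map (CommRingCat.ofHom (algebraMap A κ)))) :=
    GeometricallyReduced.geometrically_isReduced _ _ _ (IsPullback.of_hasPullback _ _)
  haveI : AlgebraicGeometry.IsReduced (Spec (CommRingCat.of (B ⊗[A] κ))) :=
    isReduced_of_isOpenImmersion (pullbackSpecIso A B κ).inv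
  exact (affine_isReduced_iff (CommRingCat.of (B ⊗[A] κ))).1 this

/-- The tensor product with an integral algebra that is radicial over the closed point is local. -/
theorem isLocalRing_tensor_of_radicial {A B A' : Type u} [CommRing A] [IsLocalRing A] [CommRing B]
    [IsLocalRing B] [Algebra A B] [IsLocalHom (algebraMap A B)] [CommRing A'] [Algebra A A']
    [Algebra.IsIntegral A A'] [Nontrivial (B ⊗[A] A')]
    (h : GeomUnib.RadicialAt A' (IsLocalRing.maximalIdeal A)) : IsLocalRing (B ⊗[A] A') := by
  refine IsLocalRing.of_unique_max_ideal ?_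
  obtain ⟨Q₁, hQ₁⟩ := Ideal.exists_maximal (B ⊗[A] A')
  refine ⟨Q₁, hQ₁, fun Q₂ hQ₂ => ?_⟩
  have hB : ∀ Q : Ideal (B ⊗[A] A'), Q.IsMaximal →
      IsLocalRing.maximalIdeal B = Q.comap (algebraMap B (B ⊗[A] A')) := fun Q hQ =>
    (IsLocalRing.eq_maximalIdeal (Ideal.isMaximal_comap_of_isIntegral_of_isMaximal Q)).symm
  let φ : ∀ (Q : Ideal (B ⊗[A] A')) (_ : Q.IsMaximal),
      (IsLocalRing.maximalIdeal B).ResidueField →+* Q.ResidueField := fun Q hQ =>
    Ideal.ResidueField.map _ Q (algebraMap B (B ⊗[A] A')) (hB Q hQ)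
  obtain ⟨L, _, σ, τ, hστ⟩ := GeomUnib.exists_amalgam (φ Q₁ hQ₁) (φ Q₂ hQ₂)
  let χ₁ := σ.comp (algebraMap (B ⊗[A] A') Q₁.ResidueField)
  let χ₂ := τ.comp (algebraMap (B ⊗[A] A') Q₂.ResidueField)
  have hl : ∀ b : B, χ₁ (b ⊗ₜ 1) = χ₂ (b ⊗ₜ 1) := fun b => by
    simpa [φ, χ₁, χ₂, Algebra.TensorProduct.algebraMap_apply] using
      RingHom.congr_fun hστ (algebraMap B (IsLocalRing.maximalIdeal B).ResidueField b)
  let r : A' →+* B ⊗[A] A' := (Algebra.TensorProduct.includeRight : A' →ₐ[A] B ⊗[A] A').toRingHom
  have hA : ∀ a : A, r (algebraMap A A' a) = algebraMap B (B ⊗[A] A') (algebraMap A B a) := fun a => by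
    rw [Algebra.TensorProduct.algebraMap_apply]
    exact Algebra.TensorProduct.includeRight.commutes a
  have hr : χ₁.comp r = χ₂.comp r := h L _ _
    (RingHom.ext fun a => by
      show χ₁ (r (algebraMap A A' a)) = χ₂ (r (algebraMap A A' a))
      rw [hA]
      exact hl _)
    (by
      show RingHom.ker ((χ₁.comp r).comp (algebraMap A A')) = _
      rw [show (χ₁.comp r).comp (algebraMap A A') = (χ₁.comp (algebraMap B (B ⊗[A] A'))).comp (algebraMap A B) from
        RingHom.ext fun a => congrArg χ₁ (hA a), ← RingHom.comap_ker, ← RingHom.comap_ker,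
        RingHom.ker_comp_of_injective _ σ.injective, Ideal.ker_algebraMap_residueField, ← hB Q₁ hQ₁]
      exact IsLocalRing.maximalIdeal_comap (algebraMap A B))
  have heq : χ₁ = χ₂ := Algebra.TensorProduct.ringHom_ext (RingHom.ext hl) hr
  have := congrArg RingHom.ker heq
  rwa [RingHom.ker_comp_of_injective _ σ.injective, RingHom.ker_comp_of_injective _ τ.injective,
    Ideal.ker_algebraMap_residueField, Ideal.ker_algebraMap_residueField, eq_comm] at this

theorem connected_generic_fibre (A B : Type u) [CommRing A] [IsLocalRing A]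
    [IsNoetherianRing A] [CommRing B] [IsLocalRing B] [Algebra A B]
    [IsLocalHom (algebraMap A B)] [Module.Flat A B]
    (hM : ∀ (κ : Type u) [Field κ] [Algebra A κ], _root_.IsReduced (B ⊗[A] κ))
    (hA : CAlg2.IsGeomUnibranch A) :
    _root_.IsPreconnected {q : PrimeSpectrum B | q.asIdeal.comap (algebraMap A B) = nilradical A} := by
  haveI : IsDomain (CAlg2.red A) := hA.1.1
  haveI := hA.1.2
  haveI : IsLocalRing (CAlg2.red A) := IsLocalRing.of_surjective' (Ideal.Quotient.mk (nilradical A))
    Ideal.Quotient.mk_surjective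
  let R := CAlg2.red A
  let K := FractionRing R
  let A' := CAlg2.normRed A
  haveI : Algebra.IsIntegral A R := ⟨fun x => by
    obtain ⟨a, rfl⟩ := Ideal.Quotient.mk_surjective x
    exact isIntegral_algebraMap⟩
  haveI : Algebra.IsIntegral A A' := Algebra.IsIntegral.trans R
  have hrad : GeomUnib.RadicialAt A' (IsLocalRing.maximalIdeal A) := by
    have h := GeomUnib.radicialAt_of_isGeomUnibranch (K := K) hA (Ideal.Quotient.mk (nilradical A))
      Ideal.Quotient.mk_surjective (le_of_eq (Ideal.mk_ker)) A'
    intro L _ χ₁ χ₂ e hk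
    refine h L χ₁ χ₂ (RingHom.ext fun x => ?_) ?_
    · obtain ⟨a, rfl⟩ := Ideal.Quotient.mk_surjective x
      exact RingHom.congr_fun e a
    · refine (Ideal.comap_injective_of_surjective _ Ideal.Quotient.mk_surjective) ?_
      rw [RingHom.comap_ker]
      refine Eq.trans ?_ (hk.trans ?_)
      · rfl
      · exact (IsLocalRing.eq_maximalIdeal
          (Ideal.comap_isMaximal_of_surjective (Ideal.Quotient.mk (nilradical A)) Ideal.Quotient.mk_surjective)).symm
  have hinj : Function.Injective (NormalBase.incl (A := A) B A' K) :=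
    NormalBase.incl_injective A' K Subtype.val_injective
  have hidem : ∀ e : B ⊗[A] K, IsIdempotentElem e → e = 0 ∨ e = 1 := by
    intro e he
    rcases subsingleton_or_nontrivial (B ⊗[A] K) with hs | hn
    · exact Or.inl (Subsingleton.elim _ _)
    haveI : Nontrivial (B ⊗[A] A') := (NormalBase.incl (A := A) B A' K).toRingHom.domain_nontrivial
    haveI : Nontrivial (B ⊗[A] R) := (NormalBase.incl (A := A) B R K).toRingHom.domain_nontrivial
    have hz : (NormalBase.incl (A := A) B R K).toRingHom.IsIntegralElem e :=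
      ⟨Polynomial.X ^ 2 - Polynomial.X, Polynomial.monic_X_pow_sub (by rw [Polynomial.degree_X]; norm_num), by
        simp [sq, he.eq]⟩
    obtain ⟨w, hw⟩ := NormalBase.mem_range_integralClosure hM e hz
    have hwi : w * w = w := hinj (by rw [map_mul]; exact (congrArg₂ (· * ·) hw hw).trans (he.trans hw.symm))
    haveI := isLocalRing_tensor_of_radicial (B := B) hrad
    rcases IsLocalRing.isUnit_or_isUnit_one_sub_self w with h | h
    · exact Or.inr (by rw [← hw, h.mul_eq_left.1 hwi, map_one])
    · have : w = 0 := h.mul_right_eq_zero.1 (by rw [sub_mul, one_mul, hwi, sub_self])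
      exact Or.inl (by rw [← hw, this, map_zero])
  haveI : PreconnectedSpace (PrimeSpectrum (B ⊗[A] K)) := by
    rw [preconnectedSpace_iff_clopen]
    intro s hs
    obtain ⟨e, he, rfl⟩ := PrimeSpectrum.isClopen_iff.1 hs
    rcases hidem e he with rfl | rfl
    · exact Or.inl (by simp)
    · exact Or.inr (by simp)
  let ι : B →+* B ⊗[A] K := algebraMap B (B ⊗[A] K)
  have hrange : {q : PrimeSpectrum B | q.asIdeal.comap (algebraMap A B) = nilradical A} =
      Set.range (PrimeSpectrum.comap ι) := by
    ext q
    refine ⟨fun hq => ?_, ?_⟩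
    · let χ : R →+* q.asIdeal.ResidueField :=
        Ideal.Quotient.lift (nilradical A) ((algebraMap B q.asIdeal.ResidueField).comp (algebraMap A B)) fun a ha => by
          have : a ∈ q.asIdeal.comap (algebraMap A B) := hq.symm ▸ ha
          exact RingHom.mem_ker.1 (by rwa [← RingHom.comap_ker, Ideal.ker_algebraMap_residueField])
      have hχ : Function.Injective χ := RingHom.lift_injective_of_ker_le_ideal _ _
        (by rw [← RingHom.comap_ker, Ideal.ker_algebraMap_residueField]; exact hq.le)
      let κ : K →ₐ[A] q.asIdeal.ResidueField :=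
        { IsFractionRing.lift hχ with
          commutes' := fun a => by
            show IsFractionRing.lift hχ (algebraMap A K a) = _
            rw [IsScalarTower.algebraMap_apply A R K, IsFractionRing.lift_algebraMap,
              IsScalarTower.algebraMap_apply A B q.asIdeal.ResidueField]
            rfl }
      let Φ : B ⊗[A] K →ₐ[A] q.asIdeal.ResidueField :=
        Algebra.TensorProduct.lift (IsScalarTower.toAlgHom A B q.asIdeal.ResidueField) κ (fun _ _ => Commute.all _ _)
      haveI : (RingHom.ker Φ).IsPrime := RingHom.ker_isPrime _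
      refine ⟨⟨RingHom.ker Φ, inferInstance⟩, PrimeSpectrum.ext ?_⟩
      show (RingHom.ker Φ).comap ι = q.asIdeal
      conv_rhs => rw [← Ideal.ker_algebraMap_residueField q.asIdeal]
      ext b
      rw [Ideal.mem_comap, RingHom.mem_ker, RingHom.mem_ker]
      have : Φ (ι b) = algebraMap B q.asIdeal.ResidueField b :=
        (Algebra.TensorProduct.lift_tmul _ _ _ b 1).trans (by rw [map_one, mul_one]; rfl)
      rw [this]
    · rintro ⟨P, rfl⟩
      let r : K →+* B ⊗[A] K := (Algebra.TensorProduct.includeRight : K →ₐ[A] B ⊗[A] K).toRingHom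
      have hc : ι.comp (algebraMap A B) = r.comp (algebraMap A K) := RingHom.ext fun a => by
        show algebraMap B (B ⊗[A] K) (algebraMap A B a) = Algebra.TensorProduct.includeRight (algebraMap A K a)
        rw [AlgHom.commutes]; rfl
      show (P.asIdeal.comap ι).comap (algebraMap A B) = nilradical A
      rw [Ideal.comap_comap, hc, ← Ideal.comap_comap, Ideal.eq_bot_of_prime (P.asIdeal.comap r)]
      ext a
      rw [Ideal.mem_comap, Ideal.mem_bot, IsScalarTower.algebraMap_apply A R K,
        (IsFractionRing.injective R K).eq_iff' (map_zero _)]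
      exact Ideal.Quotient.eq_zero_iff_mem
  rw [hrange]
  exact isPreconnected_range (PrimeSpectrum.continuous_comap ι)

theorem isConnected_compl (A B : Type u) [CommRing A] [IsLocalRing A]
    [IsNoetherianRing A] [CommRing B] [IsLocalRing B] [Algebra A B]
    [IsLocalHom (algebraMap A B)] [Module.Flat A B]
    (hM : ∀ (κ : Type u) [Field κ] [Algebra A κ], _root_.IsReduced (B ⊗[A] κ))
    (hA : CAlg2.IsGeomUnibranch A) (T : Set (PrimeSpectrum B))
    (hT' : interior (closure (PrimeSpectrum.comap (algebraMap A B) '' T)) = ∅) :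
    _root_.IsConnected Tᶜ := by
  let G := {q : PrimeSpectrum B | q.asIdeal.comap (algebraMap A B) = nilradical A}
  have hG := connected_generic_fibre A B hM hA
  haveI : IsDomain (CAlg2.red A) := hA.1.1
  haveI hp : (nilradical A).IsPrime := (Ideal.Quotient.isDomain_iff_prime _).1 hA.1.1
  have hgen : ∀ q : PrimeSpectrum B, ∃ q' ∈ G, q' ⤳ q := fun q => by
    haveI : q.asIdeal.LiesOver (q.asIdeal.comap (algebraMap A B)) := ⟨rfl⟩
    obtain ⟨P, hPq, hP, hP'⟩ := Ideal.exists_ideal_le_liesOver_of_le q.asIdeal
      (p := nilradical A) (q := q.asIdeal.comap (algebraMap A B)) (nilradical_le_prime _)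
    exact ⟨⟨P, hP⟩, hP'.over.symm, (PrimeSpectrum.le_iff_specializes _ _).1 hPq⟩
  have hsub : G ⊆ Tᶜ := by
    intro q hq hqT
    have h1 : closure (PrimeSpectrum.comap (algebraMap A B) '' T) = Set.univ := by
      refine Set.eq_univ_of_forall fun p => ?_
      exact ((PrimeSpectrum.le_iff_specializes (PrimeSpectrum.comap (algebraMap A B) q) p).1
        (show q.asIdeal.comap (algebraMap A B) ≤ p.asIdeal from hq ▸ nilradical_le_prime _)).mem_closed
        isClosed_closure (subset_closure ⟨q, hqT, rfl⟩)
    rw [h1, interior_univ] at hT'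
    exact (Set.eq_empty_iff_forall_notMem.1 hT') ⟨nilradical A, hp⟩ trivial
  have hne : G.Nonempty := by
    obtain ⟨q', h, -⟩ := hgen (IsLocalRing.closedPoint B)
    exact ⟨q', h⟩
  exact IsConnected.subset_closure ⟨hne, hG⟩ hsub fun q _ => by
    obtain ⟨q', h, hs⟩ := hgen q
    exact closure_mono (Set.singleton_subset_iff.2 h) hs.mem_closure

end Groth.Agent.UnibFib
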