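import Groth.Agent.UnibFib.Embeddings
import Groth.Agent.ZarConn.ClosureBound

/-!
# Components of fibres over unibranch points
-/

set_option autoImplicit false
universe u
open CategoryTheory CategoryTheory.Limits AlgebraicGeometry

namespace Groth.Agent.UnibFib

theorem nonempty_fiber {X Y : Scheme.{u}} [IsIntegral X] [IsIntegral Y] (f : X ⟶ Y) [IsProper f]
    (hdom : f.base (genericPoint X) ⤳ genericPoint Y) (y : Y) : Nonempty ↥(f.fiber y) := by
  have h1 : f.base (genericPoint X) ⤳ y := hdom.trans ((genericPoint_spec Y).specializes trivial)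
  obtain ⟨x, hx⟩ : y ∈ Set.range f.base :=
    f.isClosedMap.isClosed_range.closure_subset
      (closure_mono (Set.singleton_subset_iff.2 (Set.mem_range_self (f := f.base) (genericPoint X))) h1.mem_closure)
  exact ⟨(f.fiberHomeo y).symm ⟨x, hx⟩⟩

theorem components_le' {X Y : Scheme.{u}} [IsIntegral X] [IsIntegral Y] [IsLocallyNoetherian Y]
    (f : X ⟶ Y) [IsProper f] (hdom : f.base (genericPoint X) ⤳ genericPoint Y)
    [Algebra Y.functionField X.functionField]
    (halg : algebraMap Y.functionField X.functionField = CohIII.stalkToFunctionField f (genericPoint Y) hdom)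
    (hn : Field.finSepDegree Y.functionField ↥(algebraicClosure Y.functionField X.functionField) ≠ 0)
    (y : Y) [IsLocalRing (integralClosure (Y.presheaf.stalk y) Y.functionField)] :
    Finite (_root_.ConnectedComponents ↥(f.fiber y)) ∧
      Nat.card (_root_.ConnectedComponents ↥(f.fiber y)) ≤
        Field.finSepDegree Y.functionField ↥(algebraicClosure Y.functionField X.functionField) := by
  let A := Y.presheaf.stalk y
  have hy' : genericPoint Y ⤳ y := (genericPoint_spec Y).specializes trivial
  let h : f.base (genericPoint X) ⤳ y := hdom.trans hy'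
  letI : Algebra A X.functionField := (CohIII.stalkToFunctionField f y h).toAlgebra
  haveI : IsScalarTower A Y.functionField X.functionField := IsScalarTower.of_algebraMap_eq fun a => by
    rw [halg]
    show (f.stalkMap (genericPoint X)).hom ((Y.presheaf.stalkSpecializes h).hom a) =
      (f.stalkMap (genericPoint X)).hom ((Y.presheaf.stalkSpecializes hdom).hom
        ((Y.presheaf.stalkSpecializes hy').hom a))
    rw [← CommRingCat.comp_apply (Y.presheaf.stalkSpecializes hy'), TopCat.Presheaf.stalkSpecializes_comp]
  obtain ⟨hfin, hle⟩ := maximal_le_finSepDegree A Y.functionField X.functionField hn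
  haveI : Finite (MaximalSpectrum (CohIII.integralClosureStalk f y h)) := hfin
  have hc : Cardinal.mk (_root_.ConnectedComponents ↥(f.fiber y)) ≤
      Cardinal.mk (MaximalSpectrum (integralClosure A X.functionField)) :=
    ZarConnBound.card_components_le f y h
  have hlt : Cardinal.mk (MaximalSpectrum (integralClosure A X.functionField)) < Cardinal.aleph0 :=
    Cardinal.mk_lt_aleph0_iff.2 hfin
  refine ⟨Cardinal.mk_lt_aleph0_iff.1 (hc.trans_lt hlt), le_trans ?_ hle⟩
  exact Cardinal.toNat_le_toNat hc hlt

theorem components_le {X Y : Scheme.{u}} [IsIntegral X] [IsIntegral Y] [IsLocallyNoetherian Y]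
    (f : X ⟶ Y) [IsProper f] (hdom : f.base (genericPoint X) ⤳ genericPoint Y)
    [Algebra Y.functionField X.functionField]
    (halg : algebraMap Y.functionField X.functionField = CohIII.stalkToFunctionField f (genericPoint Y) hdom)
    (hn : Field.finSepDegree Y.functionField ↥(algebraicClosure Y.functionField X.functionField) ≠ 0)
    (y : Y) (hy : CAlg2.IsUnibranch (Y.presheaf.stalk y)) :
    Finite (_root_.ConnectedComponents ↥(f.fiber y)) ∧
      Nat.card (_root_.ConnectedComponents ↥(f.fiber y)) ≤
        Field.finSepDegree Y.functionField ↥(algebraicClosure Y.functionField X.functionField) := by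
  obtain ⟨ψ, hψ, -⟩ := GeomUnib.exists_surjective_normRed (K := Y.functionField) (RingHom.id (Y.presheaf.stalk y))
    (fun a => ⟨a, rfl⟩) (fun a ha => by
      rw [show a = 0 from ha]; exact zero_mem _) (integralClosure (Y.presheaf.stalk y) Y.functionField)
  haveI := hy.2
  haveI : IsLocalRing (integralClosure (Y.presheaf.stalk y) Y.functionField) := (RingEquiv.ofBijective ψ hψ).isLocalRing
  exact components_le' f hdom halg hn y

end Groth.Agent.UnibFib
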