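import Groth.Agent.GeomUnib.Radical
import Mathlib.FieldTheory.SeparableDegree
import Mathlib.RingTheory.Ideal.GoingUp
import Mathlib.FieldTheory.AlgebraicClosure

/-!
# Maximal ideals of an integral closure in a field extension are counted by embeddings
-/

set_option autoImplicit false
universe u

namespace Groth.Agent.UnibFib

open Polynomial

/-- If the integral closure of `A` in `K` is local, every maximal ideal of the integral closure of
`A` in `F` is the trace of one fixed maximal ideal of the integral closure in an algebraically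
closed field along an embedding of the algebraic closure of `K` in `F`. -/
theorem maximal_le_algHom (A K F E : Type u) [CommRing A] [Field K] [Field F] [Algebra A K] [Algebra A F]
    [Algebra K F] [IsScalarTower A K F] [IsLocalRing (integralClosure A K)]
    [Field E] [IsAlgClosed E] [Algebra K E] [Algebra A E] [IsScalarTower A K E]
    [Finite (↥(algebraicClosure K F) →ₐ[K] E)] :
    Finite (MaximalSpectrum (integralClosure A F)) ∧
      Nat.card (MaximalSpectrum (integralClosure A F)) ≤
        Nat.card (↥(algebraicClosure K F) →ₐ[K] E) := by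
  let L := algebraicClosure K F
  let B := integralClosure A K
  let C := integralClosure A F
  let Ā := integralClosure A E
  obtain ⟨P, hP⟩ := Ideal.exists_maximal Ā
  haveI : Algebra.IsAlgebraic K L := algebraicClosure.isAlgebraic K F
  obtain ⟨σ₀⟩ : Nonempty (L →ₐ[K] E) := ⟨IsAlgClosed.lift⟩
  have hCL : ∀ c : C, (c : F) ∈ L := fun c =>
    (mem_algebraicClosure_iff').2 (c.2.tower_top)
  have hint : ∀ (σ : L →ₐ[K] E) (c : C), IsIntegral A (σ ⟨c, hCL c⟩) := by
    intro σ c
    have h1 : IsIntegral A (⟨c, hCL c⟩ : L) :=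
      (isIntegral_algHom_iff ((L.val).restrictScalars A) Subtype.val_injective).1 c.2
    exact h1.map (σ.restrictScalars A)
  let res : (L →ₐ[K] E) → (C →+* Ā) := fun σ =>
    (σ.toRingHom.comp ((algebraMap C F).codRestrict L.toSubfield hCL)).codRestrict Ā (hint σ)
  have hres : ∀ σ, Function.Injective (res σ) := fun σ a b e =>
    Subtype.ext (congrArg (fun x : L => (x : F)) (σ.toRingHom.injective (congrArg (fun x : Ā => (x : E)) e)) : _)
  have hresA : ∀ σ (a : A), res σ (algebraMap A C a) = algebraMap A Ā a := fun σ a =>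
    Subtype.ext (σ.restrictScalars A |>.commutes a)
  have hresint : ∀ σ, (res σ).IsIntegral := fun σ =>
    RingHom.IsIntegral.tower_top (algebraMap A C) (res σ)
      (by rw [show (res σ).comp (algebraMap A C) = algebraMap A Ā from RingHom.ext (hresA σ)]
          exact fun x => Algebra.IsIntegral.isIntegral x)
  have hNmax : ∀ σ, (P.comap (res σ)).IsMaximal := fun σ =>
    Ideal.isMaximal_comap_of_isIntegral_of_isMaximal' (res σ) (hresint σ) P
  let ι : B →ₐ[A] Ā := ((IsScalarTower.toAlgHom A K E).comp B.val).codRestrict Ā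
    (fun b => b.2.map (IsScalarTower.toAlgHom A K E))
  have hιint : ι.toRingHom.IsIntegral :=
    RingHom.IsIntegral.tower_top (algebraMap A B) ι.toRingHom
      (by rw [show ι.toRingHom.comp (algebraMap A B) = algebraMap A Ā from RingHom.ext ι.commutes]
          exact fun x => Algebra.IsIntegral.isIntegral x)
  let g : (L →ₐ[K] E) → MaximalSpectrum C := fun σ => ⟨P.comap (res σ), hNmax σ⟩
  suffices hg : Function.Surjective g from
    ⟨Finite.of_surjective g hg, Nat.card_le_card_of_surjective g hg⟩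
  intro M
  by_contra hM
  push Not at hM
  classical
  haveI : Fintype (L →ₐ[K] E) := Fintype.ofFinite _
  have hne : ¬ ((M.asIdeal : Set C) ⊆ ⋃ σ ∈ ((Finset.univ : Finset (L →ₐ[K] E)) : Set (L →ₐ[K] E)), (P.comap (res σ) : Set C)) := by
    intro hsub
    rw [Ideal.subset_union_prime σ₀ σ₀
      (fun σ _ _ _ => (hNmax σ).isPrime)] at hsub
    obtain ⟨σ, -, hσ⟩ := hsub
    exact hM σ (MaximalSpectrum.ext ((M.isMaximal.eq_of_le (hNmax σ).ne_top hσ).symm))
  obtain ⟨c, hcM, hc⟩ := Set.not_subset.1 hne
  simp only [Set.mem_iUnion, not_exists] at hc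
  let cL : L := ⟨c, hCL c⟩
  let q := minpoly K cL
  have hq : IsIntegral K cL := Algebra.IsIntegral.isIntegral cL
  have hsplit : (q.map (algebraMap K E)).Splits := IsAlgClosed.splits _
  have hroot : ∀ r ∈ q.aroots E, ∃ σ : L →ₐ[K] E, (res σ c : E) = r := by
    intro r hr
    have h1 : r ∈ q.rootSet E := by
      rw [mem_rootSet]; exact ⟨minpoly.ne_zero hq, ((mem_aroots.1 hr).2)⟩
    rw [← Algebra.IsAlgebraic.range_eval_eq_rootSet_minpoly] at h1
    obtain ⟨σ, hσ⟩ := h1
    exact ⟨σ, hσ⟩
  have hmonic : (q.map (algebraMap K E)).Monic := (minpoly.monic hq).map _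
  have hcoef : (algebraMap K E) (q.coeff 0) = (-1) ^ (q.map (algebraMap K E)).natDegree * (q.aroots E).prod := by
    have := hsplit.coeff_zero_eq_prod_roots_of_monic hmonic
    rwa [coeff_map] at this
  haveI : Nonempty (L →ₐ[K] E) := ⟨σ₀⟩
  choose! τ hτ using hroot
  let π : Ā := (-1) ^ (q.map (algebraMap K E)).natDegree * ((q.aroots E).map (fun r => res (τ r) c)).prod
  have hπ : (π : E) = algebraMap K E (q.coeff 0) := by
    have h2 : Ā.val π = _ := map_mul Ā.val _ _
    refine h2.trans ?_
    rw [map_pow, map_neg, map_one, map_multiset_prod, Multiset.map_map, hcoef]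
    congr 2
    conv_rhs => rw [← Multiset.map_id (q.aroots E)]
    exact Multiset.map_congr rfl fun r hr => hτ r hr
  let b : B := ⟨q.coeff 0, (isIntegral_algHom_iff (IsScalarTower.toAlgHom A K E) (algebraMap K E).injective).1
    (show IsIntegral A (algebraMap K E (q.coeff 0)) from hπ ▸ π.2)⟩
  have hb : ι b = π := Subtype.ext hπ.symm
  have hr0 : σ₀ cL ∈ q.aroots E := by
    rw [mem_aroots]
    exact ⟨minpoly.ne_zero hq, by rw [aeval_algHom_apply, minpoly.aeval, map_zero]⟩
  letI : Algebra C Ā := (res σ₀).toAlgebra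
  haveI : Algebra.IsIntegral C Ā := ⟨hresint σ₀⟩
  haveI := M.isMaximal
  obtain ⟨Q, hQm, hQ⟩ := Ideal.exists_ideal_over_maximal_of_isIntegral (S := Ā) M.asIdeal
    (by rw [show RingHom.ker (algebraMap C Ā) = ⊥ from (RingHom.injective_iff_ker_eq_bot _).1 (hres σ₀)]
        exact bot_le)
  have hBmax : ∀ (J : Ideal Ā), J.IsMaximal → J.comap ι.toRingHom = IsLocalRing.maximalIdeal B := fun J hJ =>
    IsLocalRing.eq_maximalIdeal (Ideal.isMaximal_comap_of_isIntegral_of_isMaximal' ι.toRingHom hιint J)
  have hcQ : res σ₀ c ∈ Q := (hQ ▸ hcM : c ∈ Q.comap (algebraMap C Ā))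
  have hτ0 : res (τ (σ₀ cL)) c = res σ₀ c := Subtype.ext (hτ _ hr0)
  have hπQ : π ∈ Q := Q.mul_mem_left _
    (Ideal.mem_of_dvd Q (Multiset.dvd_prod (Multiset.mem_map.2 ⟨_, hr0, hτ0⟩)) hcQ)
  have hbP : b ∈ P.comap ι.toRingHom := by
    rw [hBmax P hP, ← hBmax Q hQm]
    show ι b ∈ Q
    rw [hb]; exact hπQ
  have hπP : π ∈ P := hb ▸ hbP
  rcases hP.isPrime.mem_or_mem hπP with h1 | h1
  · exact hP.ne_top (P.eq_top_of_isUnit_mem h1 (isUnit_one.neg.pow _))
  · obtain ⟨x, hx, hxP⟩ := (hP.isPrime.multiset_prod_mem_iff_exists_mem _).1 h1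
    obtain ⟨r, -, rfl⟩ := Multiset.mem_map.1 hx
    exact hc (τ r) (Finset.mem_coe.2 (Finset.mem_univ _)) hxP

theorem maximal_le_finSepDegree (A K F : Type u) [CommRing A] [Field K] [Field F] [Algebra A K] [Algebra A F]
    [Algebra K F] [IsScalarTower A K F] [IsLocalRing (integralClosure A K)]
    (hn : Field.finSepDegree K ↥(algebraicClosure K F) ≠ 0) :
    Finite (MaximalSpectrum (integralClosure A F)) ∧
      Nat.card (MaximalSpectrum (integralClosure A F)) ≤
        Field.finSepDegree K ↥(algebraicClosure K F) := by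
  let Ω := AlgebraicClosure K
  haveI : Algebra.IsAlgebraic K ↥(algebraicClosure K F) := algebraicClosure.isAlgebraic K F
  have e := Field.finSepDegree_eq_of_isAlgClosed K ↥(algebraicClosure K F) Ω
  haveI : Finite (↥(algebraicClosure K F) →ₐ[K] Ω) := Nat.finite_of_card_ne_zero (e ▸ hn)
  rw [e]
  exact maximal_le_algHom A K F Ω

end Groth.Agent.UnibFib
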